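import Mathlib
import Cfsg.Agent.Lib.ExtFieldSymp.Coeff

/-!
Groups of isometries of the trace of a hermitian `K`-form containing the Siegel maps, for an
extension `K` of odd prime degree of the finite field `F`: transport and root sets.
-/

set_option autoImplicit false
set_option linter.unusedSectionVars false
set_option linter.unusedVariables false
set_option linter.style.haveILetI false

namespace CfsgLib.ExtFieldUnit

open Module
open CfsgLib.ExtFieldSymp (ev ev_apply tr_ext)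

variable {F K V : Type*} [Field F] [Fintype F] [Field K] [Algebra F K] [AddCommGroup V]
  [Module F V] [Module K V] [IsScalarTower F K V] [FiniteDimensional F V]
  [FiniteDimensional F K] [FiniteDimensional K V]

/-- The hypotheses on the form `H`, hermitian for `γ`, and the group `M`. -/
structure Setup (M : Subgroup (V ≃ₗ[F] V)) (H : V → V → K) (γ : K ≃+* K) (σ : F ≃+* F) (ν : K) :
    Prop where
  prime : (finrank F K).Prime
  odd : Odd (finrank F K)
  two_le : 2 ≤ finrank K V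
  σ_ne : σ ≠ RingEquiv.refl F
  γ_γ : ∀ a, γ (γ a) = a
  γ_alg : ∀ a : F, γ (algebraMap F K a) = algebraMap F K (σ a)
  add_left : ∀ x y z, H (x + y) z = H x z + H y z
  smul_left : ∀ (k : K) x y, H (k • x) y = k * H x y
  herm : ∀ x y, γ (H x y) = H y x
  nondeg : ∀ x, (∀ y, H x y = 0) → x = 0
  iso : ∀ g ∈ M, ∀ x y, Algebra.trace F K (H (g x) (g y)) = Algebra.trace F K (H x y)
  sieg : ∀ (u w : V) (d : K), H u u = 0 → H u w = 0 → d + γ d = - H w w →
    ∃ g ∈ M, ∀ x, g x = x + H x w • u - H x u • w + (d * H x u) • u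
  ν_ne : ν ≠ 0
  ν_not : ∀ a : F, ν ≠ algebraMap F K a * γ ν
  scal : ∀ (u : V) (μ : K), u ≠ 0 → H u u = 0 → μ ≠ 0 → (γ μ = μ ∨ μ = ν) →
    ∃ g ∈ M, g u = μ • u ∧ ∀ (k : K) x, g (k • x) = k • g x

/-- `X'` is adjoint to `X` for the hermitian trace form. -/
def IsAdj (γ : K ≃+* K) (X X' : Module.End F K) : Prop :=
  ∀ a b, Algebra.trace F K (X a * γ b) = Algebra.trace F K (a * γ (X' b))

/-- The maps `D` with `x ↦ x + D (H x u) u` in `M`. -/
def rootSet (M : Subgroup (V ≃ₗ[F] V)) (H : V → V → K) (u : V) : Set (Module.End F K) :=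
  {D | ∃ g ∈ M, ∀ x, g x = x + D (H x u) • u}

/-- Every ring automorphism commutes with the Galois group. -/
lemma ringEquiv_comm [Finite K] (γ : K ≃+* K) (τ : K ≃ₐ[F] K) (a : K) : γ (τ a) = τ (γ a) := by
  obtain ⟨i, hi⟩ := (FiniteField.bijective_frobeniusAlgEquivOfAlgebraic_pow F K).2 τ
  have h : ∀ x : K, τ x = x ^ (Fintype.card F ^ (i : ℕ)) := fun x => by
    rw [← hi, AlgEquiv.coe_pow, FiniteField.coe_frobeniusAlgEquivOfAlgebraic_iterate]
  rw [h, h, map_pow]

namespace Setup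

variable {M : Subgroup (V ≃ₗ[F] V)} {H : V → V → K} {γ : K ≃+* K} {σ : F ≃+* F} {ν : K}
  (h : Setup M H γ σ ν)
include h

lemma add_right (x y z : V) : H x (y + z) = H x y + H x z := by
  rw [← h.herm, h.add_left, map_add, h.herm, h.herm]

lemma smul_right (k : K) (x y : V) : H x (k • y) = γ k * H x y := by
  rw [← h.herm, h.smul_left, map_mul, h.herm]

lemma zero_left (y : V) : H 0 y = 0 := by
  simpa using h.smul_left 0 0 y

lemma zero_right (y : V) : H y 0 = 0 := by
  simpa using h.smul_right 0 y 0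

lemma neg_left (x y : V) : H (-x) y = - H x y := by
  rw [← neg_one_smul K x, h.smul_left, neg_one_mul]

lemma neg_right (x y : V) : H x (-y) = - H x y := by
  rw [← neg_one_smul K y, h.smul_right, map_neg, map_one, neg_one_mul]

lemma sub_left (x y z : V) : H (x - y) z = H x z - H y z := by
  rw [sub_eq_add_neg, h.add_left, h.neg_left, sub_eq_add_neg]

lemma sub_right (x y z : V) : H x (y - z) = H x y - H x z := by
  rw [sub_eq_add_neg, h.add_right, h.neg_right, sub_eq_add_neg]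

lemma eq_zero_comm {x y : V} (hxy : H x y = 0) : H y x = 0 := by
  rw [← h.herm, hxy, map_zero]

lemma γ_trace (a : K) : Algebra.trace F K (γ a) = σ (Algebra.trace F K a) := by
  haveI : Finite K := Module.finite_of_finite F
  apply (algebraMap F K).injective
  rw [← h.γ_alg, trace_eq_sum_automorphisms, trace_eq_sum_automorphisms, map_sum]
  exact Finset.sum_congr rfl fun τ _ => (ringEquiv_comm γ τ a).symm

lemma tr_extγ {a b : K} (e : ∀ k, Algebra.trace F K (a * γ k) = Algebra.trace F K (b * γ k)) :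
    a = b :=
  tr_ext fun k => by
    have := e (γ k)
    rwa [h.γ_γ, mul_comm a, mul_comm b] at this

lemma exists_skew : ∃ e : F, e ≠ 0 ∧ σ e = -e := by
  obtain ⟨a, ha⟩ : ∃ a, σ a ≠ a := by
    by_contra hh
    simp only [not_exists, not_not] at hh
    exact h.σ_ne (RingEquiv.ext hh)
  have hσσ : σ (σ a) = a := (algebraMap F K).injective (by rw [← h.γ_alg, ← h.γ_alg, h.γ_γ])
  exact ⟨σ a - a, sub_ne_zero.2 ha, by rw [map_sub, hσσ]; ring⟩

lemma exists_half : ∃ θ : K, θ + γ θ = 1 := by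
  obtain ⟨a, ha⟩ : ∃ a, σ a ≠ a := by
    by_contra hh
    simp only [not_exists, not_not] at hh
    exact h.σ_ne (RingEquiv.ext hh)
  by_cases h2 : (2 : K) = 0
  · have ha' : a + σ a ≠ 0 := fun e => ha (by
      have h2F : (2 : F) = 0 := (algebraMap F K).injective (by rw [map_ofNat, h2, map_zero])
      linear_combination e - a * h2F)
    refine ⟨algebraMap F K (a / (a + σ a)), ?_⟩
    have hσσ : σ (σ a) = a := (algebraMap F K).injective (by rw [← h.γ_alg, ← h.γ_alg, h.γ_γ])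
    rw [h.γ_alg, map_div₀ σ, map_add σ, hσσ, add_comm (σ a) a, ← map_add, ← add_div, div_self ha', map_one]
  · refine ⟨2⁻¹, ?_⟩
    rw [map_inv₀, map_ofNat]
    field_simp
    norm_num

/-- Every element is `κ₁ + λ κ₂` with `κ₁`, `κ₂` fixed by `γ`, for `λ` not fixed. -/
lemma decomp {l : K} (hl : γ l ≠ l) (k : K) :
    ∃ a b : K, γ a = a ∧ γ b = b ∧ k = a + l * b := by
  have hne : l - γ l ≠ 0 := sub_ne_zero.2 (Ne.symm hl)
  set b := (k - γ k) / (l - γ l) with hb
  have hγb : γ b = b := by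
    rw [hb, map_div₀, map_sub, map_sub, h.γ_γ, h.γ_γ, ← neg_sub k, ← neg_sub l, neg_div_neg_eq]
  have e : b * (l - γ l) = k - γ k := div_mul_cancel₀ _ hne
  refine ⟨k - l * b, b, ?_, hγb, by ring⟩
  rw [map_sub, map_mul, hγb]
  linear_combination e

lemma exists_real_ne {l : K} (hl : γ l ≠ l) {D : Module.End F K} (hD : D ≠ 0) :
    ∃ a, γ a = a ∧ (D a ≠ 0 ∨ D (l * a) ≠ 0) := by
  by_contra hh
  simp only [not_exists, not_and, not_or, not_not] at hh
  exact hD (LinearMap.ext fun k => by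
    obtain ⟨a, b, ha, hb, rfl⟩ := h.decomp hl k
    rw [map_add, (hh a ha).1, (hh b hb).2, add_zero, LinearMap.zero_apply])

lemma exists_rep (χ : V →ₗ[K] K) : ∃ w, ∀ x, H x w = χ x := by
  haveI : Finite V := Module.finite_of_finite F
  haveI : Finite K := Module.finite_of_finite F
  let Φ : V → (V →ₗ[K] K) := fun w =>
    { toFun := fun x => H x w
      map_add' := fun x y => h.add_left x y w
      map_smul' := fun k x => h.smul_left k x w }
  have hinj : Function.Injective Φ := fun w w' e => sub_eq_zero.1 (h.nondeg _ fun y => by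
    have : H y w = H y w' := LinearMap.congr_fun e y
    exact h.eq_zero_comm (by rw [h.sub_right, this, sub_self]))
  haveI : Finite (V →ₗ[K] K) := Finite.of_injective (fun f : V →ₗ[K] K => (f : V → K)) DFunLike.coe_injective
  haveI : Fintype V := Fintype.ofFinite V
  haveI : Fintype (V →ₗ[K] K) := Fintype.ofFinite _
  have hcard : Fintype.card V = Fintype.card (V →ₗ[K] K) := by
    rw [← Nat.card_eq_fintype_card, ← Nat.card_eq_fintype_card,
      Module.natCard_eq_pow_finrank (K := K), Module.natCard_eq_pow_finrank (K := K) (V := V →ₗ[K] K),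
      Subspace.dual_finrank_eq]
  obtain ⟨w, hw⟩ := ((Fintype.bijective_iff_injective_and_card Φ).2 ⟨hinj, hcard⟩).2 χ
  exact ⟨w, fun x => LinearMap.congr_fun hw x⟩

lemma exists_eval {a u : V} (ha : a ∉ K ∙ u) : ∃ w, H u w = 0 ∧ H a w = 1 := by
  obtain ⟨χ, h1, h2⟩ := ExtFieldMax.exists_functional_one ha
  obtain ⟨w, hw⟩ := h.exists_rep χ
  exact ⟨w, by rw [hw, h1], by rw [hw, h2]⟩

lemma exists_H_eq {u : V} (hu : u ≠ 0) (a : K) : ∃ x, H x u = a := by
  obtain ⟨y, hy⟩ : ∃ y, H y u ≠ 0 := by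
    by_contra hh
    simp only [not_exists, not_not] at hh
    exact hu (h.nondeg u fun y => h.eq_zero_comm (hh y))
  exact ⟨(a * (H y u)⁻¹) • y, by rw [h.smul_left, mul_assoc, inv_mul_cancel₀ hy, mul_one]⟩

lemma mem_span_of_H_eq_zero {u x : V} (hx : ∀ w, H u w = 0 → H x w = 0) : x ∈ K ∙ u := by
  by_contra hh
  obtain ⟨w, h1, h2⟩ := h.exists_eval hh
  exact one_ne_zero (h2.symm.trans (hx w h1))

/-- The isotropic partner of an isotropic vector. -/
lemma exists_dual {u : V} (hu0 : u ≠ 0) (hu : H u u = 0) : ∃ z, H z z = 0 ∧ H u z = 1 := by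
  obtain ⟨y, hy⟩ := h.exists_H_eq hu0 1
  have hy' : H u y = 1 := by rw [← h.herm, hy, map_one]
  obtain ⟨θ, hθ⟩ := h.exists_half
  refine ⟨y - (H y y * θ) • u, ?_, by rw [h.sub_right, h.smul_right, hu, hy', mul_zero, sub_zero]⟩
  rw [h.sub_left, h.sub_right, h.sub_right, h.smul_left, h.smul_left, h.smul_right, h.smul_right,
    hu, hy, hy', map_mul, h.herm]
  linear_combination -(H y y) * hθ

lemma exists_third {u v : V} (hu0 : u ≠ 0) (hu : H u u = 0) (hv0 : v ≠ 0) (hv : H v v = 0) :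
    ∃ z, H z z = 0 ∧ H u z ≠ 0 ∧ H v z ≠ 0 := by
  obtain ⟨z₁, hz₁, h1⟩ := h.exists_dual hu0 hu
  obtain ⟨z₂, hz₂, h2⟩ := h.exists_dual hv0 hv
  by_cases h3 : H v z₁ = 0
  swap; · exact ⟨z₁, hz₁, by simp [h1], h3⟩
  by_cases h4 : H u z₂ = 0
  swap; · exact ⟨z₂, hz₂, h4, by simp [h2]⟩
  by_cases huv : H u v = 0
  · refine ⟨z₁ + z₂ - H z₂ z₁ • u, ?_, ?_, ?_⟩
    · have e1 : H z₁ u = 1 := by rw [← h.herm, h1, map_one]
      have e4 : H z₂ u = 0 := h.eq_zero_comm h4
      simp only [h.sub_left, h.sub_right, h.add_left, h.add_right, h.smul_left, h.smul_right, hz₁,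
        hz₂, hu, h1, h4, e1, e4, h.herm]
      ring
    · simp [h.sub_right, h.add_right, h.smul_right, hu, h1, h4]
    · simp [h.sub_right, h.add_right, h.smul_right, h.eq_zero_comm huv, h3, h2]
  · -- `u` and `v` span a hyperbolic plane
    obtain ⟨e, he, he'⟩ := h.exists_skew
    have heK : γ (algebraMap F K e) = - algebraMap F K e := by rw [h.γ_alg, he', map_neg]
    have heK0 : algebraMap F K e ≠ 0 := (map_ne_zero _).2 he
    refine ⟨(algebraMap F K e / H u v) • u + v, ?_, ?_, ?_⟩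
    · simp only [h.add_left, h.add_right, h.smul_left, h.smul_right, hu, hv, map_div₀, heK]
      rw [← h.herm u v]
      have hc : γ (H u v) ≠ 0 := (map_ne_zero γ).2 huv
      field_simp
      ring
    · simpa [h.add_right, h.smul_right, hu] using huv
    · have hvu : H v u ≠ 0 := fun e' => huv (h.eq_zero_comm e')
      simp [h.add_right, h.smul_right, hv, heK, heK0, huv, hvu, map_div₀]

lemma transvection {u : V} (hu : H u u = 0) {d : K} (hd : d + γ d = 0) :
    ∃ g ∈ M, ∀ x, g x = x + (d * H x u) • u := by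
  obtain ⟨g, hg, e⟩ := h.sieg u 0 d hu (h.zero_right u) (by rw [h.zero_right, neg_zero, hd])
  exact ⟨g, hg, fun x => by simp [e, h.zero_right]⟩

/-- The transvections carry isotropic lines to one another. -/
lemma exists_map {a b : V} (ha : a ≠ 0) (haa : H a a = 0) (hb : b ≠ 0) (hbb : H b b = 0) :
    ∃ g ∈ M, ∃ k : K, k ≠ 0 ∧ g a = k • b ∧ ∀ (l : K) (x : V), g (l • x) = l • g x := by
  have key : ∀ a b : V, H a a = 0 → H b b = 0 → H a b ≠ 0 →
      ∃ g ∈ M, ∃ k : K, k ≠ 0 ∧ g a = k • b ∧ ∀ (l : K) (x : V), g (l • x) = l • g x := by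
    intro a b ha hb hab
    obtain ⟨e, he, he'⟩ := h.exists_skew
    have heK : γ (algebraMap F K e) = - algebraMap F K e := by rw [h.γ_alg, he', map_neg]
    have heK0 : algebraMap F K e ≠ 0 := (map_ne_zero _).2 he
    set k : K := γ (algebraMap F K e / H a b) with hk
    have hk0 : k ≠ 0 := (map_ne_zero γ).2 (div_ne_zero heK0 hab)
    have hs : H a (k • b) = algebraMap F K e := by
      rw [h.smul_right, hk, h.γ_γ, div_mul_cancel₀ _ hab]
    have hs' : H (k • b) a = - algebraMap F K e := by rw [← h.herm, hs, heK]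
    have hkb : H (k • b) (k • b) = 0 := by rw [h.smul_left, h.smul_right, hb, mul_zero, mul_zero]
    obtain ⟨g, hg, eg⟩ := h.transvection (u := k • b - a)
      (by rw [h.sub_left, h.sub_right, h.sub_right, ha, hkb, hs, hs']; ring)
      (d := (algebraMap F K e)⁻¹) (by rw [map_inv₀, heK, inv_neg, add_neg_cancel])
    refine ⟨g, hg, k, hk0, ?_, fun l x => ?_⟩
    · rw [eg, h.sub_right, hs, ha, sub_zero, inv_mul_cancel₀ heK0, one_smul, add_sub_cancel]
    · rw [eg, eg, h.smul_left, smul_add, smul_smul]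
      congr 2
      ring
  obtain ⟨z, hz, haz, hbz⟩ := h.exists_third ha haa hb hbb
  obtain ⟨g₁, h₁, k₁, hk₁, e₁, l₁⟩ := key a z haa hz haz
  obtain ⟨g₂, h₂, k₂, hk₂, e₂, l₂⟩ := key z b hz hbb fun e => hbz (h.eq_zero_comm e)
  exact ⟨g₂ * g₁, M.mul_mem h₂ h₁, k₁ * k₂, mul_ne_zero hk₁ hk₂,
    by rw [LinearEquiv.mul_apply, e₁, l₂, e₂, smul_smul],
    fun l x => by rw [LinearEquiv.mul_apply, LinearEquiv.mul_apply, l₁, l₂]⟩

/-! ### Root sets -/

lemma rootSet_zero (u : V) : (0 : Module.End F K) ∈ rootSet M H u :=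
  ⟨1, M.one_mem, fun x => by simp⟩

lemma rootSet_add {u : V} (hu : H u u = 0) {D E : Module.End F K} (hD : D ∈ rootSet M H u)
    (hE : E ∈ rootSet M H u) : D + E ∈ rootSet M H u := by
  obtain ⟨g, hg, eg⟩ := hD
  obtain ⟨t, ht, et⟩ := hE
  refine ⟨g * t, M.mul_mem hg ht, fun x => ?_⟩
  rw [LinearEquiv.mul_apply, eg, et, h.add_left, h.smul_left, hu, mul_zero, add_zero,
    LinearMap.add_apply, add_smul]
  abel

lemma rootSet_neg {u : V} (hu : H u u = 0) {D : Module.End F K} (hD : D ∈ rootSet M H u) :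
    -D ∈ rootSet M H u := by
  obtain ⟨g, hg, eg⟩ := hD
  refine ⟨g⁻¹, M.inv_mem hg, fun x => g.injective ?_⟩
  show g (g.symm x) = _
  rw [g.apply_symm_apply, eg, h.add_left, h.smul_left, hu, mul_zero, add_zero, LinearMap.neg_apply,
    neg_smul]
  abel

lemma rootSet_sum {ι : Type*} {s : Finset ι} {D : ι → Module.End F K} {u : V} (hu : H u u = 0)
    (hD : ∀ i ∈ s, D i ∈ rootSet M H u) : ∑ i ∈ s, D i ∈ rootSet M H u :=
  Finset.sum_induction D _ (fun _ _ => h.rootSet_add hu) (h.rootSet_zero u) hD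

lemma mulLeft_mem_rootSet {u : V} (hu : H u u = 0) {d : K} (hd : d + γ d = 0) :
    LinearMap.mulLeft F d ∈ rootSet M H u :=
  h.transvection hu hd

lemma isAdj_self {u : V} (hu0 : u ≠ 0) (hu : H u u = 0) {D : Module.End F K}
    (hD : D ∈ rootSet M H u) : IsAdj γ D (-D) := by
  obtain ⟨g, hg, eg⟩ := hD
  intro a b
  obtain ⟨x, rfl⟩ := h.exists_H_eq hu0 a
  obtain ⟨y, rfl⟩ := h.exists_H_eq hu0 b
  have e := h.iso g hg x y
  rw [eg, eg, h.add_left, h.add_right, h.add_right, h.smul_left, h.smul_left, h.smul_right,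
    h.smul_right, hu, ← h.herm y u, mul_zero, mul_zero, add_zero, map_add, map_add,
    mul_comm (γ (D (H y u)))] at e
  rw [LinearMap.neg_apply, map_neg, mul_neg, map_neg]
  linear_combination e

/-- A member of `M` carrying the line of `u` to that of `u'` carries the root sets. -/
lemma rootSet_conj {u u' : V} {g : V ≃ₗ[F] V} (hg : g ∈ M) {a a' : Module.End F K}
    (ha : ∀ k : K, g (k • u) = a k • u') (haa : IsAdj γ a a') {D : Module.End F K}
    (hD : D ∈ rootSet M H u) : a ∘ₗ D ∘ₗ a' ∈ rootSet M H u' := by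
  obtain ⟨t, ht, et⟩ := hD
  refine ⟨g * t * g⁻¹, M.mul_mem (M.mul_mem hg ht) (M.inv_mem hg), fun x => ?_⟩
  have key : H (g.symm x) u = a' (H x u') := h.tr_extγ fun k => by
    have e := h.iso g hg (g.symm x) (k • u)
    rw [g.apply_symm_apply, ha, h.smul_right, h.smul_right, mul_comm (γ (a k)),
      mul_comm (γ k)] at e
    rw [← e]
    have e' := congrArg σ (haa k (H x u'))
    rw [← h.γ_trace, ← h.γ_trace, map_mul γ, map_mul γ, h.γ_γ, h.γ_γ, mul_comm] at e'
    rw [e', mul_comm]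
  simp only [LinearEquiv.mul_apply, et, map_add, ha]
  show g (g.symm x) + _ = _
  rw [g.apply_symm_apply, show (g⁻¹ : V ≃ₗ[F] V) x = g.symm x from rfl, key]
  rfl

lemma isAdj_mulLeft (μ : K) : IsAdj γ (LinearMap.mulLeft F μ) (LinearMap.mulLeft F (γ μ)) := by
  intro a b
  simp only [LinearMap.mulLeft_apply, map_mul, h.γ_γ]
  ring_nf

lemma mulLeft_conj {u : V} (hu0 : u ≠ 0) (hu : H u u = 0) {D : Module.End F K}
    (hD : D ∈ rootSet M H u) {μ : K} (hμ : γ μ = μ ∨ μ = ν) :
    LinearMap.mulLeft F μ ∘ₗ D ∘ₗ LinearMap.mulLeft F (γ μ) ∈ rootSet M H u := by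
  rcases eq_or_ne μ 0 with rfl | hμ0
  · convert h.rootSet_zero u using 1
    ext x; simp
  obtain ⟨g, hg, eg, lg⟩ := h.scal u μ hu0 hu hμ0 hμ
  exact h.rootSet_conj hg (a := LinearMap.mulLeft F μ)
    (fun k => by rw [lg, eg, smul_smul, LinearMap.mulLeft_apply, mul_comm])
    (h.isAdj_mulLeft μ) hD

lemma polar_mem {u : V} (hu0 : u ≠ 0) (hu : H u u = 0) {D : Module.End F K}
    (hD : D ∈ rootSet M H u) {μ μ' : K} (hμ : γ μ = μ) (hμ' : γ μ' = μ') :
    LinearMap.mulLeft F μ ∘ₗ D ∘ₗ LinearMap.mulLeft F μ' +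
      LinearMap.mulLeft F μ' ∘ₗ D ∘ₗ LinearMap.mulLeft F μ ∈ rootSet M H u := by
  have h1 := h.mulLeft_conj hu0 hu hD (μ := μ + μ') (Or.inl (by rw [map_add, hμ, hμ']))
  have h2 := h.mulLeft_conj hu0 hu hD (μ := μ) (Or.inl hμ)
  have h3 := h.mulLeft_conj hu0 hu hD (μ := μ') (Or.inl hμ')
  rw [map_add, hμ, hμ'] at h1
  rw [hμ] at h2
  rw [hμ'] at h3
  convert h.rootSet_add hu h1 (h.rootSet_neg hu (h.rootSet_add hu h2 h3)) using 1
  ext x
  simp [add_mul, mul_add]
  ring

end Setup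

end CfsgLib.ExtFieldUnit
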