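import Mathlib

/-!
A quadratic map between finite groups of exponent `p` whose source is larger than the square of
the target has a nonzero zero (Chevalley–Warning).
-/

set_option autoImplicit false
set_option linter.style.haveILetI false

namespace CfsgLib.ExtFieldUnit

open MvPolynomial
open Module (finrank Basis)

lemma exists_quadratic_zero_mod {A T : Type*} [AddCommGroup A] [AddCommGroup T] {p : ℕ}
    [Fact p.Prime] [Module (ZMod p) A] [Module (ZMod p) T] [Module.Finite (ZMod p) A]
    [Module.Finite (ZMod p) T] (B : A →+ A →+ T)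
    (hed : 2 * finrank (ZMod p) T < finrank (ZMod p) A) : ∃ a, a ≠ 0 ∧ B a a = 0 := by
  classical
  let bA := Module.finBasis (ZMod p) A
  let bT := Module.finBasis (ZMod p) T
  set d := finrank (ZMod p) A
  set e := finrank (ZMod p) T
  let f : Fin e → MvPolynomial (Fin d) (ZMod p) := fun l =>
    ∑ i, ∑ j, C (bT.repr (B (bA i) (bA j)) l) * (X i * X j)
  have hdeg : ∀ l, (f l).totalDegree ≤ 2 := fun l => by
    refine (totalDegree_finsetSum _ _).trans (Finset.sup_le fun i _ => ?_)
    refine (totalDegree_finsetSum _ _).trans (Finset.sup_le fun j _ => ?_)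
    refine (totalDegree_mul _ _).trans ?_
    rw [totalDegree_C, zero_add]
    refine (totalDegree_mul _ _).trans ?_
    rw [totalDegree_X, totalDegree_X]
  have hsum : (∑ l, (f l).totalDegree) < Fintype.card (Fin d) := by
    refine lt_of_le_of_lt (Finset.sum_le_sum fun l _ => hdeg l) ?_
    simp only [Finset.sum_const, Finset.card_univ, Fintype.card_fin, smul_eq_mul]
    omega
  have hB : ∀ v : Fin d → ZMod p, B (∑ i, v i • bA i) (∑ i, v i • bA i) =
      ∑ i, ∑ j, (v i * v j) • B (bA i) (bA j) := fun v => by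
    rw [map_sum B, AddMonoidHom.finsetSum_apply]
    refine Finset.sum_congr rfl fun i _ => ?_
    rw [map_sum]
    refine Finset.sum_congr rfl fun j _ => ?_
    rw [ZMod.map_smul (B (v i • bA i)) (v j) (bA j),
      show B (v i • bA i) (bA j) = v i • B (bA i) (bA j) from ZMod.map_smul (B.flip (bA j)) (v i) (bA i),
      smul_smul, mul_comm]
  have hzero : ∀ v : Fin d → ZMod p, (∀ l, eval v (f l) = 0) →
      B (∑ i, v i • bA i) (∑ i, v i • bA i) = 0 := fun v hv => by
    apply bT.ext_elem
    intro l
    rw [hB, map_zero, Finsupp.zero_apply, ← hv l]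
    simp only [f, map_sum, map_smul, Finsupp.coe_finsetSum, Finset.sum_apply, Finsupp.coe_smul,
      Pi.smul_apply, smul_eq_mul, map_mul, eval_C, eval_X]
    exact Finset.sum_congr rfl fun i _ => Finset.sum_congr rfl fun j _ => by ring
  have hdvd := char_dvd_card_solutions_of_fintype_sum_lt p hsum
  have h0 : ∀ l, eval (0 : Fin d → ZMod p) (f l) = 0 := fun l => by simp [f]
  obtain ⟨v, hv, hv0⟩ : ∃ v : Fin d → ZMod p, (∀ l, eval v (f l) = 0) ∧ v ≠ 0 := by
    by_contra hh
    simp only [not_exists, not_and, not_not] at hh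
    have h1 : Fintype.card {v : Fin d → ZMod p // ∀ l, eval v (f l) = 0} = 1 :=
      Fintype.card_eq_one_iff.mpr ⟨⟨0, h0⟩, fun v => Subtype.ext (hh v.1 v.2)⟩
    replace hdvd : p ∣ 1 := by convert hdvd using 1; exact (by convert h1.symm)
    exact (Fact.out : p.Prime).one_lt.ne' (Nat.dvd_one.mp hdvd)
  refine ⟨∑ i, v i • bA i, fun h => hv0 ?_, hzero v hv⟩
  funext i
  exact Fintype.linearIndependent_iff.1 bA.linearIndependent v h i

lemma card_eq_pow (p : ℕ) [Fact p.Prime] (A : Type*) [AddCommGroup A] [Finite A] [Module (ZMod p) A] :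
    Nat.card A = p ^ finrank (ZMod p) A := by
  rw [Module.natCard_eq_pow_finrank (K := ZMod p) (V := A), Nat.card_zmod]

lemma exists_quadratic_zero_card {A T : Type*} [AddCommGroup A] [AddCommGroup T] [Finite A]
    [Finite T] {p : ℕ} [Fact p.Prime] [Module (ZMod p) A] [Module (ZMod p) T]
    (B : A →+ A →+ T) (hc : Nat.card T ^ 2 < Nat.card A) : ∃ a, a ≠ 0 ∧ B a a = 0 := by
  refine exists_quadratic_zero_mod (p := p) B ?_
  rw [card_eq_pow p T, card_eq_pow p A, ← pow_mul] at hc
  have := (Nat.pow_lt_pow_iff_right (Fact.out : p.Prime).one_lt).1 hc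
  omega

/-- A biadditive map `B` with small target has a nonzero `a` with `B a a = 0`. -/
theorem exists_quadratic_zero {A T : Type*} [AddCommGroup A] [AddCommGroup T] [Finite A] [Finite T]
    {p : ℕ} [Fact p.Prime] (hA : ∀ a : A, p • a = 0) (hT : ∀ t : T, p • t = 0)
    (B : A →+ A →+ T) (hc : Nat.card T ^ 2 < Nat.card A) : ∃ a, a ≠ 0 ∧ B a a = 0 :=
  @exists_quadratic_zero_card A T _ _ _ _ p _ (AddCommGroup.zmodModule hA) (AddCommGroup.zmodModule hT) B hc

end CfsgLib.ExtFieldUnit
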