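import Mathlib
import Cfsg.Agent.Lib.ExtFieldUnit.Basic

/-!
A root set with full Galois support contains every skew-adjoint endomorphism.
-/

set_option autoImplicit false
set_option linter.unusedSectionVars false
set_option linter.unusedVariables false
set_option linter.style.haveILetI false

namespace CfsgLib.ExtFieldUnit

open Module
open CfsgLib.ExtFieldSymp (ev ev_apply ev_add ev_zero ev_single_one ev_surjective ev_injective
  eq_zero_of_forall)

variable {F K V : Type*} [Field F] [Fintype F] [Field K] [Algebra F K] [AddCommGroup V]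
  [Module F V] [Module K V] [IsScalarTower F K V] [FiniteDimensional F V]
  [FiniteDimensional F K] [FiniteDimensional K V]

/-- The coefficients of the adjoint. -/
def adjH (γ : K ≃+* K) (c : (K ≃ₐ[F] K) → K) : (K ≃ₐ[F] K) → K := fun τ => γ (τ (c τ⁻¹))

/-- Every automorphism occurs in some member of the root set. -/
def Full (M : Subgroup (V ≃ₗ[F] V)) (H : V → V → K) (u : V) : Prop :=
  ∀ τ : K ≃ₐ[F] K, ∃ d : (K ≃ₐ[F] K) → K, ev d ∈ rootSet M H u ∧ d τ ≠ 0

lemma adjH_adjH {γ : K ≃+* K} (hγ : ∀ a, γ (γ a) = a) (c : (K ≃ₐ[F] K) → K) :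
    adjH γ (adjH γ c) = c := by
  haveI : Finite K := Module.finite_of_finite F
  funext τ
  show γ (τ (γ (τ⁻¹ (c τ⁻¹⁻¹)))) = c τ
  rw [inv_inv, ← ringEquiv_comm γ τ, hγ]
  exact τ.apply_symm_apply _

lemma isAdj_adjH {γ : K ≃+* K} (hγ : ∀ a, γ (γ a) = a) (c : (K ≃ₐ[F] K) → K) :
    IsAdj γ (ev c) (ev (adjH γ c)) := by
  haveI : Finite K := Module.finite_of_finite F
  intro a b
  rw [ev_apply, ev_apply, Finset.sum_mul, map_sum, map_sum γ, Finset.mul_sum, map_sum]
  refine Fintype.sum_equiv (Equiv.inv _) _ _ fun t => ?_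
  rw [← Algebra.trace_eq_of_algEquiv t⁻¹ (c t * t a * γ b)]
  simp only [Equiv.inv_apply, adjH, inv_inv, map_mul, hγ, show t⁻¹ (t a) = a from t.symm_apply_apply a,
    ← ringEquiv_comm γ t⁻¹ b]
  ring_nf

namespace Setup

variable {M : Subgroup (V ≃ₗ[F] V)} {H : V → V → K} {γ : K ≃+* K} {σ : F ≃+* F} {ν : K}
  (h : Setup M H γ σ ν)
include h

lemma adj_eq {X Y Y' : Module.End F K} (hX : IsAdj γ X Y) (hX' : IsAdj γ X Y') : Y = Y' := by
  refine LinearMap.ext fun b => h.tr_extγ fun k => ?_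
  have e : Algebra.trace F K (k * γ (Y b)) = Algebra.trace F K (k * γ (Y' b)) := by rw [← hX, hX']
  have e' := congrArg σ e
  rw [← h.γ_trace, ← h.γ_trace, map_mul γ, map_mul γ, h.γ_γ, h.γ_γ, mul_comm, mul_comm (γ k)] at e'
  exact e'

lemma skewC {u : V} (hu0 : u ≠ 0) (hu : H u u = 0) {d : (K ≃ₐ[F] K) → K}
    (hd : ev d ∈ rootSet M H u) : adjH γ d = -d := by
  apply ev_injective
  rw [h.adj_eq (isAdj_adjH h.γ_γ d) (h.isAdj_self hu0 hu hd)]
  ext a
  simp [ev_apply, neg_mul, Finset.sum_neg_distrib]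

lemma coeff_inv {u : V} (hu0 : u ≠ 0) (hu : H u u = 0) {d : (K ≃ₐ[F] K) → K}
    (hd : ev d ∈ rootSet M H u) (t : K ≃ₐ[F] K) : d t⁻¹ = - γ (t⁻¹ (d t)) := by
  have e := congrFun (h.skewC hu0 hu hd) t⁻¹
  rw [adjH, inv_inv, Pi.neg_apply] at e
  linear_combination e

lemma eq_zero_of_real {c : (K ≃ₐ[F] K) → K} (hc : ∀ a : K, γ a = a → ∑ t, c t * t a = 0) :
    c = 0 := by
  obtain ⟨e, he, he'⟩ := h.exists_skew
  by_cases hl : γ (algebraMap F K e) = algebraMap F K e
  · -- characteristic two: another scalar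
    obtain ⟨a, ha⟩ : ∃ a, σ a ≠ a := by
      by_contra hh
      simp only [not_exists, not_not] at hh
      exact h.σ_ne (RingEquiv.ext hh)
    have hl' : γ (algebraMap F K a) ≠ algebraMap F K a := fun e' => ha (by
      rw [h.γ_alg] at e'; exact (algebraMap F K).injective e')
    refine eq_zero_of_forall fun k => ?_
    obtain ⟨x, y, hx, hy, rfl⟩ := h.decomp hl' k
    simp only [map_add, map_mul, AlgEquiv.commutes, mul_add, Finset.sum_add_distrib, hc x hx,
      mul_left_comm _ (algebraMap F K a), ← Finset.mul_sum, hc y hy, mul_zero, add_zero]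
  · refine eq_zero_of_forall fun k => ?_
    obtain ⟨x, y, hx, hy, rfl⟩ := h.decomp hl k
    simp only [map_add, map_mul, AlgEquiv.commutes, mul_add, Finset.sum_add_distrib, hc x hx,
      mul_left_comm _ (algebraMap F K e), ← Finset.mul_sum, hc y hy, mul_zero, add_zero]

lemma span_real : Submodule.span K
    (Set.range fun (a : {a : K // γ a = a}) (t : K ≃ₐ[F] K) => t a.1) = ⊤ := by
  classical
  by_contra hne
  obtain ⟨φ, hφ0, hφ⟩ := Submodule.exists_le_ker_of_lt_top _ (lt_top_iff_ne_top.2 hne)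
  refine hφ0 (LinearMap.pi_ext' fun t => LinearMap.ext_ring ?_)
  have hc : (fun t => φ (Pi.single t 1)) = 0 := h.eq_zero_of_real fun a ha => by
    have e : φ (fun t : K ≃ₐ[F] K => t a) = 0 := hφ (Submodule.subset_span ⟨⟨a, ha⟩, rfl⟩)
    rw [pi_eq_sum_univ (fun t : K ≃ₐ[F] K => t a), map_sum] at e
    refine Eq.trans (Finset.sum_congr rfl fun t _ => ?_) e
    rw [map_smul, smul_eq_mul, mul_comm]
    congr 2
    funext s
    simp [Pi.single_apply, eq_comm]
  simpa using congrFun hc t

lemma ev_polar_real {μ μ' : K} (d : (K ≃ₐ[F] K) → K) :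
    LinearMap.mulLeft F μ ∘ₗ ev d ∘ₗ LinearMap.mulLeft F μ' +
      LinearMap.mulLeft F μ' ∘ₗ ev d ∘ₗ LinearMap.mulLeft F μ =
        ev (fun t => d t * (μ * t μ' + μ' * t μ)) :=
  CfsgLib.ExtFieldSymp.ev_polar μ μ' d

/-- Closure of the root set under real symmetrised weights. -/
lemma weight_mem {u : V} (hu0 : u ≠ 0) (hu : H u u = 0) {d : (K ≃ₐ[F] K) → K}
    (hd : ev d ∈ rootSet M H u) {v : (K ≃ₐ[F] K) → K} (hv : ∀ t, γ (v t) = v t) :
    ev (fun t => d t * (v t + t (v t⁻¹))) ∈ rootSet M H u := by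
  classical
  haveI : Finite K := Module.finite_of_finite F
  obtain ⟨θ, hθ⟩ := h.exists_half
  obtain ⟨c, hc⟩ := (Finsupp.mem_span_range_iff_exists_finsupp).1
    (h.span_real ▸ Submodule.mem_top : v ∈ Submodule.span K
      (Set.range fun (a : {a : K // γ a = a}) (t : K ≃ₐ[F] K) => t a.1))
  set x : {a : K // γ a = a} → K := fun a => θ * c a + γ (θ * c a) with hx
  have hxr : ∀ a, γ (x a) = x a := fun a => by rw [hx]; simp only [map_add, h.γ_γ, add_comm]
  have hva : ∀ t : K ≃ₐ[F] K, v t = ∑ a ∈ c.support, x a * t a.1 := by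
    intro t
    have e : v t = ∑ a ∈ c.support, c a * t a.1 := by
      rw [← hc]; simp [Finsupp.sum, Finset.sum_apply]
    have e' : v t = ∑ a ∈ c.support, γ (c a) * t a.1 := by
      rw [← hv t, e, map_sum]
      refine Finset.sum_congr rfl fun a _ => ?_
      rw [map_mul, ringEquiv_comm γ t, a.2]
    calc v t = θ * v t + γ θ * v t := by rw [← add_mul, hθ, one_mul]
      _ = ∑ a ∈ c.support, x a * t a.1 := by
        conv_lhs => arg 1; rw [e]
        conv_lhs => arg 2; rw [e']
        rw [Finset.mul_sum, Finset.mul_sum, ← Finset.sum_add_distrib]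
        refine Finset.sum_congr rfl fun a _ => ?_
        rw [hx]; simp only [map_mul]; ring
  have hmem := h.rootSet_sum hu (s := c.support)
    (D := fun a => ev (fun t => d t * (x a * t a.1 + a.1 * t (x a))))
    fun a _ => h.ev_polar_real (μ := x a) (μ' := a.1) d ▸ h.polar_mem hu0 hu hd (hxr a) a.2
  convert hmem using 1
  ext k
  simp only [LinearMap.sum_apply, ev_apply, map_sum, hva]
  rw [Finset.sum_comm]
  refine Finset.sum_congr rfl fun t _ => ?_
  rw [← Finset.sum_add_distrib, Finset.mul_sum, Finset.sum_mul]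
  refine Finset.sum_congr rfl fun a _ => ?_
  simp only [map_mul, show t (t⁻¹ a.1) = a.1 from t.apply_symm_apply _]
  ring

/-- `ν τ(γ ν)` is not fixed by `γ` for `τ ≠ 1`. -/
lemma ν_prod {t : K ≃ₐ[F] K} (ht : t ≠ 1) : γ (ν * t (γ ν)) ≠ ν * t (γ ν) := by
  haveI : Finite K := Module.finite_of_finite F
  intro e
  rw [map_mul, ringEquiv_comm γ t, h.γ_γ] at e
  have hγν : γ ν ≠ 0 := (map_ne_zero γ).2 h.ν_ne
  have hx : t (ν / γ ν) = ν / γ ν := by
    rw [map_div₀, div_eq_div_iff ((map_ne_zero t).2 hγν) hγν]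
    linear_combination e
  have hm : ν / γ ν ∈ AlgHom.equalizer t.toAlgHom (AlgHom.id F K) := hx
  rcases (Subalgebra.isSimpleOrder_of_finrank_prime F K h.prime).eq_bot_or_eq_top
      (AlgHom.equalizer t.toAlgHom (AlgHom.id F K)) with hE | hE
  · rw [hE] at hm
    obtain ⟨a, ha⟩ := Algebra.mem_bot.mp hm
    exact h.ν_not a (by rw [ha, div_mul_cancel₀ _ hγν])
  · refine ht (AlgEquiv.ext fun k => ?_)
    have hk : k ∈ AlgHom.equalizer t.toAlgHom (AlgHom.id F K) := hE ▸ Algebra.mem_top
    exact hk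

/-- An automorphism different from `1` differs from its inverse. -/
lemma inv_ne {t : K ≃ₐ[F] K} (ht : t ≠ 1) : t⁻¹ ≠ t := by
  haveI : Finite K := Module.finite_of_finite F
  intro e
  have h2 : t ^ 2 = 1 := by rw [sq]; nth_rw 1 [← e]; exact inv_mul_cancel t
  have hr : orderOf t ∣ finrank F K := by
    rw [← IsGalois.card_aut_eq_finrank]; exact orderOf_dvd_natCard t
  have hd : orderOf t ∣ Nat.gcd 2 (finrank F K) := Nat.dvd_gcd (orderOf_dvd_of_pow_eq_one h2) hr
  have hc : Nat.gcd 2 (finrank F K) = 1 := Nat.coprime_two_left.2 h.odd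
  rw [hc, Nat.dvd_one, orderOf_eq_one_iff] at hd
  exact ht hd

/-- A full root set contains all skew-adjoint maps. -/
theorem skew_mem {u : V} (hu0 : u ≠ 0) (hu : H u u = 0) (hfull : Full M H u)
    {c : (K ≃ₐ[F] K) → K} (hc : adjH γ c = -c) : ev c ∈ rootSet M H u := by
  classical
  haveI : Finite K := Module.finite_of_finite F
  have hcinv : ∀ t, c t⁻¹ = - γ (t⁻¹ (c t)) := fun t => by
    have e := congrFun hc t⁻¹
    rw [adjH, inv_inv, Pi.neg_apply] at e
    linear_combination e
  have pair : ∀ s : K ≃ₐ[F] K,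
      ev (fun t => if t = s ∨ t = s⁻¹ then c t else 0) ∈ rootSet M H u := by
    intro s
    rcases eq_or_ne s 1 with rfl | hs1
    · have h1 : c 1 + γ (c 1) = 0 := by
        have := hcinv 1
        rw [inv_one, AlgEquiv.one_apply] at this
        linear_combination this
      convert h.mulLeft_mem_rootSet hu h1 using 1
      rw [← ev_single_one (F := F)]
      congr 1
      funext t
      by_cases ht : t = 1 <;> simp [ht]
    obtain ⟨d, hd, hds⟩ := hfull s
    obtain ⟨a, b, ha, hb, hz⟩ := h.decomp (h.ν_prod hs1) (c s / d s)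
    have hw : ∀ κ : K, γ κ = κ →
        ev (fun t => d t * ((Pi.single s κ : (K ≃ₐ[F] K) → K) t +
          t ((Pi.single s κ : (K ≃ₐ[F] K) → K) t⁻¹))) ∈ rootSet M H u := fun κ hκ =>
      h.weight_mem hu0 hu hd fun t => by by_cases ht : t = s <;> simp [ht, hκ]
    have h1 := hw a ha
    have h2 := h.mulLeft_conj hu0 hu (hw b hb) (μ := ν) (Or.inr rfl)
    have hconj : ∀ w : (K ≃ₐ[F] K) → K, LinearMap.mulLeft F ν ∘ₗ ev w ∘ₗ LinearMap.mulLeft F (γ ν) =
        ev (fun t => w t * (ν * t (γ ν))) := fun w => by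
      ext k
      simp only [LinearMap.comp_apply, LinearMap.mulLeft_apply, ev_apply, map_mul, Finset.mul_sum]
      exact Finset.sum_congr rfl fun t _ => by ring
    rw [hconj] at h2
    have h3 := h.rootSet_add hu h1 h2
    rw [← ev_add] at h3
    have e3 := h.coeff_inv hu0 hu h3 s
    convert h3 using 1
    congr 1
    funext t
    have hsv : ∀ κ : K, (Pi.single s κ : (K ≃ₐ[F] K) → K) s +
        s ((Pi.single s κ : (K ≃ₐ[F] K) → K) s⁻¹) = κ := fun κ => by
      rw [Pi.single_eq_same, Pi.single_eq_of_ne (h.inv_ne hs1), map_zero, add_zero]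
    rcases eq_or_ne t s with rfl | hts
    · rw [if_pos (Or.inl rfl)]
      simp only [Pi.add_apply, hsv]
      have e := div_mul_cancel₀ (c t) hds
      rw [hz] at e
      linear_combination -e
    rcases eq_or_ne t s⁻¹ with rfl | hts'
    · rw [if_pos (Or.inr rfl), hcinv, e3]
      congr 2
      simp only [Pi.add_apply, hsv]
      have e := div_mul_cancel₀ (c s) hds
      rw [hz] at e
      rw [show c s = d s * a + d s * b * (ν * s (γ ν)) by linear_combination -e]
    · have ht' : t⁻¹ ≠ s := fun e => hts' (by rw [← e, inv_inv])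
      rw [if_neg (by simp [hts, hts'])]
      simp [Pi.single_eq_of_ne hts, Pi.single_eq_of_ne ht']
  suffices key : ∀ n (T : Finset (K ≃ₐ[F] K)), T.card ≤ n → (∀ t ∈ T, t⁻¹ ∈ T) →
      ev (fun t => if t ∈ T then c t else 0) ∈ rootSet M H u by
    simpa using key _ Finset.univ le_rfl (by simp)
  intro n
  induction n with
  | zero =>
    intro T hT _
    simp only [Finset.card_eq_zero.mp (Nat.le_zero.mp hT), Finset.notMem_empty, if_false]
    exact ev_zero (F := F) (K := K) ▸ h.rootSet_zero u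
  | succ n ih =>
    intro T hT hinv
    rcases T.eq_empty_or_nonempty with rfl | ⟨s, hs⟩
    · exact ih _ (by simp) hinv
    have h1 := ih ((T.erase s).erase s⁻¹) (by
      have := Finset.card_erase_le (s := T.erase s) (a := s⁻¹)
      rw [Finset.card_erase_of_mem hs] at this
      omega) (fun t ht => by
        simp only [Finset.mem_erase, ne_eq] at ht ⊢
        exact ⟨fun e => ht.2.1 (inv_inj.mp e), fun e => ht.1 (by rw [← e, inv_inv]), hinv t ht.2.2⟩)
    convert h.rootSet_add hu (pair s) h1 using 1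
    rw [← ev_add]
    congr 1
    funext t
    simp only [Pi.add_apply, Finset.mem_erase, ne_eq]
    by_cases ht : t = s ∨ t = s⁻¹
    · rcases ht with e | e <;> simp [e, hs, hinv s hs]
    · rw [not_or] at ht
      simp [ht.1, ht.2]

/-- A member of `M` linear over `K` carries full root sets along. -/
lemma full_transport {u u' : V} (hu0 : u ≠ 0) (hu : H u u = 0) (hu0' : u' ≠ 0) (hu' : H u' u' = 0)
    (hf : Full M H u) : Full M H u' := by
  haveI : Finite K := Module.finite_of_finite F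
  obtain ⟨g, hg, k, hk, e, l⟩ := h.exists_map hu0 hu hu0' hu'
  intro t
  obtain ⟨d, hd, hdt⟩ := hf t
  refine ⟨fun s => d s * (k * s (γ k)), ?_, by
    simp [hdt, hk]⟩
  have h1 := h.rootSet_conj hg (u' := u') (a := LinearMap.mulLeft F k)
    (fun j => by rw [l, e, smul_smul, LinearMap.mulLeft_apply, mul_comm]) (h.isAdj_mulLeft k) hd
  convert h1 using 1
  ext j
  simp only [LinearMap.comp_apply, LinearMap.mulLeft_apply, ev_apply, map_mul, Finset.mul_sum]
  exact Finset.sum_congr rfl fun s _ => by ring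

/-- With a full root set, all transvections over `F` at isotropic vectors lie in `M`. -/
theorem transvection_mem {u₀ : V} (hu₀0 : u₀ ≠ 0) (hu₀ : H u₀ u₀ = 0) (hf : Full M H u₀) {u : V}
    (hu : H u u = 0) {e : F} (he : e + σ e = 0) :
    ∃ g ∈ M, ∀ x, g x = x + (e * Algebra.trace F K (H x u)) • u := by
  haveI : Finite K := Module.finite_of_finite F
  rcases eq_or_ne u 0 with rfl | hu0
  · exact ⟨1, M.one_mem, fun x => by simp⟩
  obtain ⟨g, hg, eg⟩ := h.skew_mem hu0 hu (h.full_transport hu₀0 hu₀ hu0 hu hf)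
    (c := fun _ => algebraMap F K e) (funext fun t => by
      rw [adjH, AlgEquiv.commutes, h.γ_alg, Pi.neg_apply, ← map_neg]
      congr 1
      linear_combination he)
  refine ⟨g, hg, fun x => ?_⟩
  rw [eg, ev_apply, ← Finset.mul_sum, ← trace_eq_sum_automorphisms, ← map_mul, algebraMap_smul]

end Setup

end CfsgLib.ExtFieldUnit
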