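import Mathlib
import Cfsg.Agent.Lib.ExtFieldUnit.Weights
import Cfsg.Agent.Lib.ExtFieldUnit.Isotropic

/-!
If no stabiliser of an isotropic line acts on it other than semilinearly, then every member of `M`
maps isotropic lines to isotropic lines (Chevalley–Warning and a Frattini argument).
-/

set_option autoImplicit false
set_option linter.unusedSectionVars false
set_option linter.unusedVariables false
set_option linter.style.haveILetI false

namespace CfsgLib.ExtFieldUnit

open Module

variable {F K V : Type*} [Field F] [Fintype F] [Field K] [Algebra F K] [AddCommGroup V]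
  [Module F V] [Module K V] [IsScalarTower F K V] [FiniteDimensional F V]
  [FiniteDimensional F K] [FiniteDimensional K V]

/-- Every member of `M` stabilising the line of `u` is semilinear on it. -/
def OnlyMul (M : Subgroup (V ≃ₗ[F] V)) (K : Type*) [Field K] [Algebra F K] [Module K V] (u : V) :
    Prop :=
  ∀ g ∈ M, ∀ a : K →ₗ[F] K, (∀ k : K, g (k • u) = a k • u) → ∀ k z, a (k * z) * a 1 = a k * a z

/-- Two additive subgroups of large order meet. -/
lemma exists_mem_inf {A : Type*} [AddCommGroup A] [Finite A] (S T : AddSubgroup A)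
    (hc : Nat.card A < Nat.card S * Nat.card T) : ∃ x ∈ S, x ∈ T ∧ x ≠ 0 := by
  by_contra hh
  simp only [not_exists, not_and, not_not] at hh
  refine hc.not_ge ?_
  rw [← Nat.card_prod]
  refine Nat.card_le_card_of_injective (fun st : S × T => (st.1 : A) + st.2) ?_
  rintro ⟨s, t⟩ ⟨s', t'⟩ e
  simp only at e
  have hx : (s : A) - s' = (t' : A) - t := by rw [sub_eq_sub_iff_add_eq_add, e, add_comm]
  have h0 := hh _ (S.sub_mem s.2 s'.2) (hx ▸ T.sub_mem t'.2 t.2)
  have hs : (s : A) = s' := sub_eq_zero.1 h0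
  exact Prod.ext (Subtype.ext hs) (Subtype.ext (sub_eq_zero.1 (hx ▸ h0)).symm)

/-- A proper subspace containing `1` and all `c` sent to `c + 1` by some automorphism. -/
lemma exists_bad [Fintype (K ≃ₐ[F] K)] (hr : (finrank F K).Prime) (h3 : 3 ≤ finrank F K) :
    ∃ E : Submodule F K, E ≠ ⊤ ∧ (1 : K) ∈ E ∧ ∀ (τ : K ≃ₐ[F] K) (c : K), τ c = c + 1 → c ∈ E := by
  classical
  haveI := Fact.mk hr
  haveI : Finite K := Module.finite_of_finite F
  have hsmall : ∀ c₀ : K, Submodule.span F {1, c₀} ≠ ⊤ := fun c₀ e => by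
    have h1 : finrank F (Submodule.span F ((({1, c₀} : Finset K)) : Set K)) ≤ 2 :=
      (finrank_span_finset_le_card ({1, c₀} : Finset K)).trans Finset.card_le_two
    rw [Finset.coe_pair, e, finrank_top] at h1
    omega
  by_cases hbad : ∀ (τ : K ≃ₐ[F] K) (c : K), τ c ≠ c + 1
  · exact ⟨_, hsmall 1, Submodule.subset_span (by simp), fun τ c e => absurd e (hbad τ c)⟩
  simp only [not_forall, not_not] at hbad
  obtain ⟨τ₀, c₀, h0⟩ := hbad
  refine ⟨_, hsmall c₀, Submodule.subset_span (by simp), fun τ c hc => ?_⟩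
  have hτ₀ : τ₀ ≠ 1 := fun e => by
    rw [e, AlgEquiv.one_apply, left_eq_add] at h0; exact one_ne_zero h0
  obtain ⟨n, rfl⟩ := mem_powers_iff_mem_zpowers.mpr
    (mem_zpowers_of_prime_card (g := τ₀) (g' := τ) (p := finrank F K)
      (IsGalois.card_aut_eq_finrank F K) hτ₀)
  have hpow : ∀ m : ℕ, (τ₀ ^ m) c₀ = c₀ + m := by
    intro m
    induction m with
    | zero => simp
    | succ m ih => rw [pow_succ', AlgEquiv.mul_apply, ih, map_add, map_natCast, h0]; push_cast; ring
  have hne : τ₀ ^ n ≠ 1 := fun e => by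
    simp only at hc
    rw [e, AlgEquiv.one_apply, left_eq_add] at hc
    exact one_ne_zero hc
  have hfixF : ∀ z : K, (τ₀ ^ n) z = z → z ∈ Set.range (algebraMap F K) := by
    intro z hz
    have hE : z ∈ AlgHom.equalizer (τ₀ ^ n).toAlgHom (AlgHom.id F K) := hz
    rcases (Subalgebra.isSimpleOrder_of_finrank_prime F K hr).eq_bot_or_eq_top
        (AlgHom.equalizer (τ₀ ^ n).toAlgHom (AlgHom.id F K)) with he | he
    · rw [he] at hE; exact Algebra.mem_bot.mp hE
    · refine absurd (AlgEquiv.ext fun k => ?_) hne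
      have hk : k ∈ AlgHom.equalizer (τ₀ ^ n).toAlgHom (AlgHom.id F K) := he ▸ Algebra.mem_top
      exact hk
  by_cases hn : (n : K) = 0
  · obtain ⟨x, hx⟩ := hfixF c₀ (by rw [hpow, hn, add_zero])
    rw [← hx, AlgEquiv.commutes, left_eq_add] at h0
    exact absurd h0 one_ne_zero
  obtain ⟨x, hx⟩ := hfixF (c - c₀ / n) (by
    simp only at hc
    rw [map_sub, map_div₀, map_natCast, hc, hpow]
    field_simp
    ring)
  have e : c = algebraMap F K x + algebraMap F K ((n : F)⁻¹) * c₀ := by
    rw [hx, map_inv₀, map_natCast, div_eq_inv_mul]; ring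
  rw [e, Algebra.algebraMap_eq_smul_one, ← Algebra.smul_def]
  exact Submodule.add_mem _ (Submodule.smul_mem _ _ (Submodule.subset_span (by simp)))
    (Submodule.smul_mem _ _ (Submodule.subset_span (by simp)))

namespace Setup

variable {M : Subgroup (V ≃ₗ[F] V)} {H : V → V → K} {γ : K ≃+* K} {σ : F ≃+* F} {ν : K}
  (h : Setup M H γ σ ν)
include h

lemma exists_halfF : ∃ θ : F, θ + σ θ = 1 := by
  obtain ⟨a, ha⟩ : ∃ a, σ a ≠ a := by
    by_contra hh
    simp only [not_exists, not_not] at hh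
    exact h.σ_ne (RingEquiv.ext hh)
  have hσσ : σ (σ a) = a := (algebraMap F K).injective (by rw [← h.γ_alg, ← h.γ_alg, h.γ_γ])
  by_cases h2 : (2 : F) = 0
  · have ha' : a + σ a ≠ 0 := fun e => ha (by linear_combination e - a * h2)
    exact ⟨a / (a + σ a), by
      rw [map_div₀, map_add, hσσ, add_comm (σ a) a, ← add_div, div_self ha']⟩
  · refine ⟨2⁻¹, ?_⟩
    rw [map_inv₀, map_ofNat]
    field_simp
    norm_num

lemma exists_d (w : V) : ∃ d : K, d + γ d = - H w w := by
  obtain ⟨θ, hθ⟩ := h.exists_half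
  refine ⟨-(θ * H w w), ?_⟩
  rw [map_neg, map_mul, h.herm]
  linear_combination -(H w w) * hθ

/-- Siegel maps at `u` fix no vector outside the line of `u`. -/
lemma mem_line_of_fixed {u x : V} (hu0 : u ≠ 0) (hu : H u u = 0)
    (hx : ∀ (w : V) (d : K), H u w = 0 → d + γ d = - H w w →
      H x w • u - H x u • w + (d * H x u) • u = 0) : x ∈ K ∙ u := by
  obtain ⟨e, he, he'⟩ := h.exists_skew
  have hxu : H x u = 0 := by
    have := hx 0 (algebraMap F K e) (h.zero_right u)
      (by rw [h.γ_alg, he', map_neg, h.zero_right, neg_zero, add_neg_cancel])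
    rw [h.zero_right, zero_smul, smul_zero, sub_zero, zero_add, smul_eq_zero] at this
    exact (mul_eq_zero.1 (this.resolve_right hu0)).resolve_left ((map_ne_zero _).2 he)
  refine h.mem_span_of_H_eq_zero fun w hw => ?_
  obtain ⟨d, hd⟩ := h.exists_d w
  have := hx w d hw hd
  rw [hxu, mul_zero, zero_smul, zero_smul, sub_zero, add_zero, smul_eq_zero] at this
  exact this.resolve_right hu0

/-- The Frattini argument. -/
theorem exists_aut {u : V} (hu0 : u ≠ 0) (hu : H u u = 0) (hM : OnlyMul M K u) (S : Submodule F K)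
    (h1S : (1 : K) ∈ S) {c j : K} (hc : c ∉ Set.range (algebraMap F K)) (hj : j ∈ S)
    {y : V ≃ₗ[F] V} (hy : y ∈ M) (hyS : ∀ l ∈ S, y (l • u) = l • u)
    (hyc : y (c • u) = (c + j) • u) :
    ∃ τ : K ≃ₐ[F] K, (∀ l ∈ S, τ l = l) ∧ τ c = c + j := by
  classical
  haveI : Finite K := Module.finite_of_finite F
  have hind : ∀ g ∈ M, (∀ x ∈ K ∙ u, g x ∈ K ∙ u) → g u = u →
      ∃ τ : K ≃ₐ[F] K, ∀ k, g (k • u) = τ k • u := by
    intro g hg hL hgu
    have hex : ∀ k : K, ∃ i : K, g (k • u) = i • u := fun k => by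
      obtain ⟨i, hi⟩ := Submodule.mem_span_singleton.mp
        (hL _ (Submodule.smul_mem _ k (Submodule.mem_span_singleton_self u)))
      exact ⟨i, hi.symm⟩
    choose f hf using hex
    let a : K →ₗ[F] K :=
      { toFun := f
        map_add' := fun x y => smul_left_injective K hu0 (by
          show f (x + y) • u = (f x + f y) • u
          rw [add_smul, ← hf, ← hf, ← hf, add_smul, map_add])
        map_smul' := fun r x => smul_left_injective K hu0 (by
          show f (r • x) • u = (r • f x) • u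
          rw [smul_assoc, ← hf, ← hf, smul_assoc, map_smul]) }
    have ha : ∀ k, g (k • u) = a k • u := hf
    have hmul := hM g hg a ha
    have h1 : a 1 = 1 := smul_left_injective K hu0 (by
      show a 1 • u = (1 : K) • u
      rw [← ha, one_smul, hgu])
    let φ : K →ₐ[F] K := AlgHom.ofLinearMap a h1 fun k z => by
      have := hmul k z; rwa [h1, mul_one] at this
    exact ⟨AlgEquiv.ofBijective φ φ.bijective, ha⟩
  have hfixline : ∀ g ∈ M, (∀ x ∈ K ∙ u, g x ∈ K ∙ u) → g u = u → g (c • u) = c • u →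
      ∀ k : K, g (k • u) = k • u := by
    intro g hg hL hgu hgc
    obtain ⟨τ, hτ⟩ := hind g hg hL hgu
    have hcE : c ∈ AlgHom.equalizer τ.toAlgHom (AlgHom.id F K) :=
      smul_left_injective K hu0 (by show τ c • u = c • u; rw [← hτ, hgc])
    rcases (Subalgebra.isSimpleOrder_of_finrank_prime F K h.prime).eq_bot_or_eq_top
        (AlgHom.equalizer τ.toAlgHom (AlgHom.id F K)) with hE | hE
    · rw [hE] at hcE
      exact absurd (Algebra.mem_bot.mp hcE) hc
    · intro k
      have hk : k ∈ AlgHom.equalizer τ.toAlgHom (AlgHom.id F K) := by rw [hE]; exact Algebra.mem_top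
      rw [hτ, show τ k = k from hk]
  have hVfin : Finite V := Module.finite_of_finite F
  have hAfin : Finite (V ≃ₗ[F] V) :=
    Finite.of_injective (fun e : V ≃ₗ[F] V => (e : V → V)) DFunLike.coe_injective
  obtain ⟨p, hp⟩ := CharP.exists F
  have : Fact p.Prime := ⟨CharP.char_is_prime F p⟩
  have hKp : CharP K p := charP_of_injective_algebraMap (algebraMap F K).injective p
  let R : Subgroup (V ≃ₗ[F] V) :=
    { carrier := {g | g ∈ M ∧ (∀ l ∈ S, g (l • u) = l • u) ∧ g (c • u) = c • u}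
      one_mem' := ⟨M.one_mem, fun _ _ => rfl, rfl⟩
      mul_mem' := fun {a b} ha hb => ⟨M.mul_mem ha.1 hb.1,
        fun l hl => by rw [LinearEquiv.mul_apply, hb.2.1 l hl, ha.2.1 l hl],
        by rw [LinearEquiv.mul_apply, hb.2.2, ha.2.2]⟩
      inv_mem' := fun {a} ha => ⟨M.inv_mem ha.1, fun l hl => a.symm_apply_eq.mpr (ha.2.1 l hl).symm,
        a.symm_apply_eq.mpr ha.2.2.symm⟩ }
  have hRu : ∀ g ∈ R, g u = u := fun g hg => by simpa using hg.2.1 1 h1S
  let Q₀ : Subgroup (V ≃ₗ[F] V) :=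
    { carrier := {g | ∃ (w : V) (d : K), H u w = 0 ∧ d + γ d = - H w w ∧
        ∀ x, g x = x + H x w • u - H x u • w + (d * H x u) • u}
      one_mem' := ⟨0, 0, h.zero_right u, by simp [h.zero_right],
        fun x => by simp [h.zero_right]⟩
      mul_mem' := by
        rintro a b ⟨w, d, h1, hd, h2⟩ ⟨w', d', h3, hd', h4⟩
        refine ⟨w + w', d + d' - H w' w, by rw [h.add_right, h1, h3, add_zero], ?_, fun x => ?_⟩
        · rw [map_sub, map_add, h.herm, h.add_left, h.add_right, h.add_right]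
          linear_combination hd + hd'
        · have h5 : H w' u = 0 := h.eq_zero_comm h3
          simp only [LinearEquiv.mul_apply, h4, h2, h.add_left, h.sub_left, h.add_right, h.smul_left,
            hu, h1, h5, mul_zero, add_zero, sub_zero]
          match_scalars <;> ring
      inv_mem' := by
        rintro a ⟨w, d, h1, hd, h2⟩
        refine ⟨-w, γ d, by rw [h.neg_right, h1, neg_zero], ?_, fun x => a.injective ?_⟩
        · rw [h.γ_γ, h.neg_left, h.neg_right, neg_neg]
          linear_combination hd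
        · have h5 : H w u = 0 := h.eq_zero_comm h1
          show a (a.symm x) = _
          rw [a.apply_symm_apply, h2]
          simp only [h.add_left, h.sub_left, h.neg_left, h.neg_right, h.smul_left, hu, h1, h5,
            mul_zero, add_zero, sub_zero, neg_zero]
          match_scalars
          · simp
          · linear_combination -(H x u) * hd
          · ring }
  have hQline : ∀ g ∈ Q₀, ∀ k : K, g (k • u) = k • u := by
    rintro g ⟨w, d, h1, -, h2⟩ k
    simp [h2, h.smul_left, hu, h1]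
  have hQR : Q₀ ≤ R := by
    intro g hg
    obtain ⟨w, d, h1, hd, h2⟩ := id hg
    obtain ⟨t, ht, htx⟩ := h.sieg u w d hu h1 hd
    obtain rfl : g = t := LinearEquiv.ext fun x => by rw [h2, htx]
    exact ⟨ht, fun l _ => hQline g hg l, hQline g hg c⟩
  have hQp : IsPGroup p Q₀ := by
    rintro ⟨g, w, d, h1, hd, h2⟩
    refine ⟨2, Subtype.ext (LinearEquiv.ext fun x => ?_)⟩
    have hwu : H w u = 0 := h.eq_zero_comm h1
    have hpow : ∀ n : ℕ, ∃ d' : K, ∀ x, (g ^ n) x =
        x + ((n : K) * H x w) • u - ((n : K) * H x u) • w + (d' * H x u) • u := by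
      intro n
      induction n with
      | zero => exact ⟨0, fun x => by simp⟩
      | succ n ih =>
        obtain ⟨d', ih⟩ := ih
        refine ⟨d + d' - (n : K) * H w w, fun x => ?_⟩
        rw [pow_succ', LinearEquiv.mul_apply, ih, h2]
        simp only [h.add_left, h.sub_left, h.smul_left, hu, h1, hwu, mul_zero, add_zero, sub_zero,
          Nat.cast_add, Nat.cast_one]
        match_scalars <;> ring
    obtain ⟨d₁, hd₁⟩ := hpow p
    have hp0 : (p : K) = 0 := CharP.cast_eq_zero K p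
    have hgp : ∀ x, (g ^ p) x = x + (d₁ * H x u) • u := fun x => by simp [hd₁, hp0]
    have hpow2 : ∀ (n : ℕ) x, ((g ^ p) ^ n) x = x + ((n : K) * d₁ * H x u) • u := by
      intro n
      induction n with
      | zero => simp
      | succ n ih =>
        intro x
        rw [pow_succ', LinearEquiv.mul_apply, ih, hgp]
        simp only [h.add_left, h.smul_left, hu, mul_zero, add_zero, Nat.cast_add, Nat.cast_one]
        match_scalars <;> ring
    simp [pow_two, pow_mul, hpow2, hp0]
  obtain ⟨P, hP⟩ := IsPGroup.exists_le_sylow (hQp.comap_subtype (K := R))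
  let LS : Subgroup (V ≃ₗ[F] V) :=
    { carrier := {g | ∀ x, g x ∈ K ∙ u ↔ x ∈ K ∙ u}
      one_mem' := fun x => Iff.rfl
      mul_mem' := fun {a b} ha hb x => (ha (b x)).trans (hb x)
      inv_mem' := fun {a} ha x => by
        have := ha (a.symm x)
        rw [a.apply_symm_apply] at this
        exact this.symm }
  have hfix : ∀ g : ↥R, (g : V ≃ₗ[F] V) ∈ LS → ∀ x ∈ K ∙ u, (g : V ≃ₗ[F] V) x = x := by
    intro g hg x hx
    obtain ⟨k, rfl⟩ := Submodule.mem_span_singleton.mp hx
    exact hfixline g g.2.1 (fun x hx => (hg x).mpr hx) (hRu g g.2) g.2.2.2 k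
  have hQfix : ∀ x, (∀ q : ↥R, q ∈ (P : Subgroup ↥R) → (q : V ≃ₗ[F] V) ∈ LS →
      (q : V ≃ₗ[F] V) x = x) → x ∈ K ∙ u := by
    intro x hx
    refine h.mem_line_of_fixed hu0 hu fun w d hw hd => ?_
    obtain ⟨t, ht, htx⟩ := h.sieg u w d hu hw hd
    have hq : t ∈ Q₀ := ⟨w, d, hw, hd, htx⟩
    have hLS : t ∈ LS := by
      have hline : ∀ k : K, t (k • u) = k • u := hQline t hq
      intro z
      refine ⟨fun hz => ?_, fun hz => ?_⟩
      · obtain ⟨k, hk⟩ := Submodule.mem_span_singleton.mp hz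
        rw [← hline] at hk
        exact Submodule.mem_span_singleton.mpr ⟨k, t.injective hk⟩
      · obtain ⟨k, rfl⟩ := Submodule.mem_span_singleton.mp hz
        rw [hline]; exact hz
    have := hx ⟨t, hQR hq⟩ (hP hq) hLS
    simpa [htx, add_assoc, add_sub_assoc] using this
  let P₁ : Subgroup ↥(P : Subgroup ↥R) := LS.comap (R.subtype.comp (P : Subgroup ↥R).subtype)
  have hPLS : ∀ q : ↥R, q ∈ (P : Subgroup ↥R) → (q : V ≃ₗ[F] V) ∈ LS := by
    suffices hP₁ : P₁ = ⊤ by
      intro q hq
      have : (⟨q, hq⟩ : ↥(P : Subgroup ↥R)) ∈ P₁ := hP₁ ▸ Subgroup.mem_top _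
      exact this
    by_contra hne
    haveI : Group.IsNilpotent ↥(P : Subgroup ↥R) := P.isPGroup'.isNilpotent
    have hlt := Group.normalizerCondition_of_isNilpotent P₁ (lt_top_iff_ne_top.mpr hne)
    obtain ⟨z, hz, hz1⟩ := SetLike.exists_of_lt hlt
    have hmap : ∀ w : ↥(P : Subgroup ↥R), w ∈ Subgroup.normalizer (P₁ : Set ↥(P : Subgroup ↥R)) →
        ∀ x ∈ K ∙ u, ((w : ↥R) : V ≃ₗ[F] V) x ∈ K ∙ u := by
      intro w hw x hx
      refine hQfix _ fun q hqP hqLS => ?_
      have hq1 : (⟨q, hqP⟩ : ↥(P : Subgroup ↥R)) ∈ P₁ := hqLS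
      have hc1 : w⁻¹ * ⟨q, hqP⟩ * w ∈ P₁ :=
        (Subgroup.mem_normalizer_iff''.mp hw _).mp hq1
      have h3 := hfix _ (show ((((w⁻¹ * ⟨q, hqP⟩ * w : ↥(P : Subgroup ↥R)) : ↥R) :
        V ≃ₗ[F] V)) ∈ LS from hc1) x hx
      have h4 := congrArg ((w : ↥R) : V ≃ₗ[F] V) h3
      simpa using h4
    refine hz1 fun x => ⟨fun hx => ?_, hmap z hz x⟩
    have := hmap z⁻¹ (Subgroup.inv_mem _ hz) _ hx
    simpa using this
  have hyu : y u = u := by simpa using hyS 1 h1S
  have hyR : ∀ g ∈ R, y * g * y⁻¹ ∈ R := by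
    rintro g ⟨g1, g2, g3⟩
    have hy1 : ∀ l ∈ S, y.symm (l • u) = l • u := fun l hl => y.symm_apply_eq.mpr (hyS l hl).symm
    have hy2 : y.symm (c • u) = c • u - j • u := y.symm_apply_eq.mpr (by
      rw [map_sub, hyc, hyS j hj, add_smul, add_sub_cancel_right])
    refine ⟨M.mul_mem (M.mul_mem hy g1) (M.inv_mem hy), fun l hl => ?_, ?_⟩
    · show y (g (y.symm (l • u))) = l • u
      rw [hy1 l hl, g2 l hl, hyS l hl]
    · show y (g (y.symm (c • u))) = c • u
      rw [hy2, map_sub, g3, g2 j hj, map_sub, hyc, hyS j hj, add_smul, add_sub_cancel_right]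
  let φ : ↥R →* ↥R :=
    { toFun := fun g => ⟨y * g * y⁻¹, hyR g g.2⟩
      map_one' := Subtype.ext (by simp)
      map_mul' := fun a b => Subtype.ext (by simp [mul_assoc]) }
  have hφ : Function.Surjective φ :=
    Finite.injective_iff_surjective.mp fun a b hab => Subtype.ext (by
      simpa [φ] using congrArg Subtype.val hab)
  obtain ⟨ρ, hρ⟩ := MulAction.exists_smul_eq ↥R (P.mapSurjective hφ) P
  have hy' : ((ρ : V ≃ₗ[F] V) * y) ∈ M := M.mul_mem ρ.2.1 hy
  have hL : ∀ x ∈ K ∙ u, ((ρ : V ≃ₗ[F] V) * y) x ∈ K ∙ u := by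
    intro x hx
    refine hQfix _ fun q hqP _ => ?_
    have hq : q ∈ ((ρ • P.mapSurjective hφ : Sylow p ↥R) : Subgroup ↥R) := by rw [hρ]; exact hqP
    rw [Sylow.coe_subgroup_smul, Sylow.coe_mapSurjective,
      Subgroup.mem_pointwise_smul_iff_inv_smul_mem, Subgroup.mem_map] at hq
    obtain ⟨s, hs, hse⟩ := hq
    have hq' : q = ρ * φ s * ρ⁻¹ := by
      rw [hse]
      simp [MulAut.smul_def, mul_assoc]
    have h3 := hfix s (hPLS s hs) x hx
    rw [hq']
    simp [φ, h3]
  obtain ⟨τ, hτ⟩ := hind _ hy' hL (by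
    rw [LinearEquiv.mul_apply, hyu]; exact hRu ρ ρ.2)
  refine ⟨τ, fun l hl => smul_left_injective K hu0 ?_, smul_left_injective K hu0 ?_⟩
  · show τ l • u = l • u
    rw [← hτ, LinearEquiv.mul_apply, hyS l hl, ρ.2.2.1 l hl]
  · show τ c • u = (c + j) • u
    rw [← hτ, LinearEquiv.mul_apply, hyc, add_smul, map_add, ρ.2.2.2, ρ.2.2.1 j hj]

end Setup

end CfsgLib.ExtFieldUnit
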