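import Mathlib
import Cfsg.Agent.Lib.ExtFieldUnit.Line

/-!
With only semilinear line stabilisers, members of `M` map isotropic lines to isotropic lines and
are semilinear; so a member which is not semilinear gives a full root set.
-/

set_option autoImplicit false
set_option linter.unusedSectionVars false
set_option linter.unusedVariables false
set_option linter.unusedSimpArgs false
set_option linter.style.haveILetI false

namespace CfsgLib.ExtFieldUnit

open Module

variable {F K V : Type*} [Field F] [Fintype F] [Field K] [Algebra F K] [AddCommGroup V]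
  [Module F V] [Module K V] [IsScalarTower F K V] [FiniteDimensional F V]
  [FiniteDimensional F K] [FiniteDimensional K V]

/-- The elements fixed by `γ`. -/
def realSub (γ : K ≃+* K) : AddSubgroup K where
  carrier := {a | γ a = a}
  add_mem' := fun {a b} (ha : γ a = a) (hb : γ b = b) => by
    show γ (a + b) = a + b; rw [map_add, ha, hb]
  zero_mem' := map_zero γ
  neg_mem' := fun {a} (ha : γ a = a) => by show γ (-a) = -a; rw [map_neg, ha]

/-- The elements negated by `γ`. -/
def skewSub (γ : K ≃+* K) : AddSubgroup K where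
  carrier := {a | γ a = -a}
  add_mem' := fun {a b} (ha : γ a = -a) (hb : γ b = -b) => by
    show γ (a + b) = -(a + b); rw [map_add, ha, hb]; ring
  zero_mem' := by show γ 0 = -0; rw [map_zero, neg_zero]
  neg_mem' := fun {a} (ha : γ a = -a) => by show γ (-a) = - -a; rw [map_neg, ha]

namespace Setup

variable {M : Subgroup (V ≃ₗ[F] V)} {H : V → V → K} {γ : K ≃+* K} {σ : F ≃+* F} {ν : K}
  (h : Setup M H γ σ ν)
include h

lemma exists_not_real : ∃ l : F, γ (algebraMap F K l) ≠ algebraMap F K l := by
  by_contra hh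
  simp only [not_exists, not_not] at hh
  exact h.σ_ne (RingEquiv.ext fun a => (algebraMap F K).injective (by rw [← h.γ_alg, hh]; rfl))

lemma card_real : Nat.card ((realSub γ)) ^ 2 = Nat.card K := by
  obtain ⟨l, hl⟩ := h.exists_not_real
  set lK := algebraMap F K l
  rw [sq, ← Nat.card_prod]
  refine Nat.card_congr (Equiv.ofBijective (fun ab : (realSub γ) × (realSub γ) => (ab.1 : K) + lK * ab.2)
    ⟨?_, fun k => ?_⟩)
  · rintro ⟨⟨a, ha⟩, ⟨b, hb⟩⟩ ⟨⟨a', ha'⟩, ⟨b', hb'⟩⟩ e
    simp only at e
    replace ha : γ a = a := ha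
    replace hb : γ b = b := hb
    replace ha' : γ a' = a' := ha'
    replace hb' : γ b' = b' := hb'
    have e' := congrArg γ e
    rw [map_add, map_add, map_mul, map_mul, ha, hb, ha', hb'] at e'
    have hb2 : b = b' := mul_left_cancel₀ (sub_ne_zero.2 hl) (by linear_combination e' - e)
    subst hb2
    have ha2 : a = a' := by linear_combination e
    subst ha2
    rfl
  · obtain ⟨a, b, ha, hb, e⟩ := h.decomp hl k
    exact ⟨(⟨a, ha⟩, ⟨b, hb⟩), e.symm⟩

lemma card_skew : Nat.card ((skewSub γ)) = Nat.card ((realSub γ)) := by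
  obtain ⟨e, he, he'⟩ := h.exists_skew
  set eK := algebraMap F K e
  have heK : γ eK = -eK := by rw [h.γ_alg, he', map_neg]
  have heK0 : eK ≠ 0 := (map_ne_zero _).2 he
  refine Nat.card_congr ⟨fun x => ⟨x.1 / eK, show γ (x.1 / eK) = x.1 / eK by
      rw [map_div₀, heK, show γ x.1 = -x.1 from x.2, neg_div_neg_eq]⟩,
    fun x => ⟨eK * x.1, show γ (eK * x.1) = -(eK * x.1) by
      rw [map_mul, heK, show γ x.1 = x.1 from x.2, neg_mul]⟩, fun x => ?_, fun x => ?_⟩
  · exact Subtype.ext (show eK * (x.1 / eK) = x.1 from mul_div_cancel₀ _ heK0)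
  · exact Subtype.ext (show eK * x.1 / eK = x.1 from mul_div_cancel_left₀ _ heK0)

lemma exists_singular : ∃ u : V, u ≠ 0 ∧ H u u = 0 := by
  haveI : Finite K := Module.finite_of_finite F
  haveI : Finite V := Module.finite_of_finite F
  obtain ⟨p, hp⟩ := CharP.exists F
  have : Fact p.Prime := ⟨CharP.char_is_prime F p⟩
  have hKp : CharP K p := charP_of_injective_algebraMap (algebraMap F K).injective p
  obtain ⟨θ, hθ⟩ := h.exists_half
  have hval : ∀ x y : V, θ * H x y + γ (θ * H x y) ∈ realSub γ := fun x y => by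
    show γ _ = _
    rw [map_add, h.γ_γ, add_comm]
  let B : V →+ V →+ realSub γ := AddMonoidHom.mk' (fun x => AddMonoidHom.mk' (fun y => ⟨_, hval x y⟩)
      (fun y y' => Subtype.ext (by
        simp only [AddSubgroup.coe_add, map_add, map_mul, h.add_right, mul_add]; abel)))
    (fun x x' => AddMonoidHom.ext fun y => Subtype.ext (by
      simp only [AddMonoidHom.mk'_apply, AddMonoidHom.add_apply, AddSubgroup.coe_add, map_add,
        map_mul, h.add_left, mul_add]
      abel))
  have hV : ∀ x : V, p • x = 0 := fun x => by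
    rw [← Nat.cast_smul_eq_nsmul K, CharP.cast_eq_zero, zero_smul]
  have hlt : Nat.card (realSub γ) ^ 2 < Nat.card V := by
    rw [h.card_real, Module.natCard_eq_pow_finrank (K := K) (V := V)]
    exact lt_self_pow₀ Finite.one_lt_card h.two_le
  obtain ⟨u, hu, hu0⟩ := exists_quadratic_zero (p := p) hV
    (fun t => Subtype.ext (by rw [AddSubgroup.coe_nsmul, nsmul_eq_mul, CharP.cast_eq_zero, zero_mul]; rfl))
    B hlt
  refine ⟨u, hu, ?_⟩
  have e : θ * H u u + γ (θ * H u u) = 0 := congrArg Subtype.val hu0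
  rw [map_mul, h.herm] at e
  linear_combination e - H u u * hθ

/-- An `F`-image of an isotropic line contains an isotropic vector. -/
lemma exists_isotropic_image {u : V} (hu0 : u ≠ 0) (hu : H u u = 0) {g : V ≃ₗ[F] V} (hg : g ∈ M) :
    ∃ k : K, k ≠ 0 ∧ H (g (k • u)) (g (k • u)) = 0 := by
  haveI : Finite K := Module.finite_of_finite F
  obtain ⟨p, hp⟩ := CharP.exists F
  have : Fact p.Prime := ⟨CharP.char_is_prime F p⟩
  have hKp : CharP K p := charP_of_injective_algebraMap (algebraMap F K).injective p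
  obtain ⟨θ, hθ⟩ := h.exists_halfF
  set θK := algebraMap F K θ with hθK
  let T : AddSubgroup K :=
    { carrier := {x | γ x = x ∧ Algebra.trace F K x = 0}
      add_mem' := fun {a b} ha hb => ⟨by rw [map_add, ha.1, hb.1], by rw [map_add, ha.2, hb.2, add_zero]⟩
      zero_mem' := ⟨map_zero γ, map_zero _⟩
      neg_mem' := fun {a} ha => ⟨by rw [map_neg, ha.1], by rw [map_neg, ha.2, neg_zero]⟩ }
  have hφ : ∀ k l : K, Algebra.trace F K (H (g (k • u)) (g (l • u))) = 0 := fun k l => by
    rw [h.iso g hg, h.smul_left, h.smul_right, hu, mul_zero, mul_zero, map_zero]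
  have hval : ∀ k l : K, θK * H (g (k • u)) (g (l • u)) + γ (θK * H (g (k • u)) (g (l • u))) ∈ T := by
    intro k l
    refine ⟨by rw [map_add, h.γ_γ, add_comm], ?_⟩
    rw [map_add, h.γ_trace, hθK, ← Algebra.smul_def, map_smul, hφ, smul_zero, map_zero, add_zero]
  let B : K →+ K →+ T := AddMonoidHom.mk' (fun k => AddMonoidHom.mk' (fun l => ⟨_, hval k l⟩)
      (fun l l' => Subtype.ext (by
        simp only [AddSubgroup.coe_add, add_smul, map_add, h.add_right, mul_add]; abel)))
    (fun k k' => AddMonoidHom.ext fun l => Subtype.ext (by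
      simp only [AddMonoidHom.mk'_apply, AddMonoidHom.add_apply, AddSubgroup.coe_add, add_smul,
        map_add, h.add_left, mul_add]
      abel))
  have hlt : Nat.card T ^ 2 < Nat.card K := by
    rw [← h.card_real]
    refine Nat.pow_lt_pow_left ?_ two_ne_zero
    obtain ⟨z, hz⟩ := Algebra.trace_surjective F K 1
    obtain ⟨x, hx, hx'⟩ : ∃ x : K, γ x = x ∧ x ∉ T := by
      refine ⟨θK * z + γ (θK * z), by rw [map_add, h.γ_γ, add_comm], fun hT => ?_⟩
      have e := hT.2
      rw [map_add, h.γ_trace, hθK, ← Algebra.smul_def, map_smul, hz, smul_eq_mul, mul_one, hθ] at e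
      exact one_ne_zero e
    have hlt : (T : Set K) ⊂ ((realSub γ) : Set K) :=
      ⟨fun a ha => ha.1, fun hle => hx' (hle hx)⟩
    exact Set.Finite.card_lt_card (Set.toFinite _) hlt
  obtain ⟨k, hk, hk0⟩ := exists_quadratic_zero (p := p)
    (fun a => by rw [nsmul_eq_mul, CharP.cast_eq_zero, zero_mul])
    (fun t => Subtype.ext (by rw [AddSubgroup.coe_nsmul, nsmul_eq_mul, CharP.cast_eq_zero, zero_mul]; rfl))
    B hlt
  refine ⟨k, hk, ?_⟩
  have e : θK * H (g (k • u)) (g (k • u)) + γ (θK * H (g (k • u)) (g (k • u))) = 0 :=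
    congrArg Subtype.val hk0
  have hh : θK + γ θK = 1 := by rw [hθK, h.γ_alg, ← map_add, hθ, map_one]
  rw [map_mul, h.herm] at e
  linear_combination e - H (g (k • u)) (g (k • u)) * hh

/-- Images of isotropic lines are lines. -/
theorem map_line (hall : ∀ u : V, u ≠ 0 → H u u = 0 → OnlyMul M K u) {g : V ≃ₗ[F] V} (hg : g ∈ M)
    {u : V} (hu0 : u ≠ 0) (hu : H u u = 0) (k : K) : g (k • u) ∈ K ∙ g u := by
  classical
  haveI : Finite K := Module.finite_of_finite F
  haveI : Fintype (K ≃ₐ[F] K) := Fintype.ofFinite _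
  obtain ⟨k₀, hk₀, ha⟩ := h.exists_isotropic_image hu0 hu hg
  set v := k₀ • u with hv
  have hv0 : v ≠ 0 := smul_ne_zero hk₀ hu0
  have hvv : H v v = 0 := by rw [hv, h.smul_left, h.smul_right, hu, mul_zero, mul_zero]
  set a := g v with hgv
  have ha0 : a ≠ 0 := fun e => hv0 (g.map_eq_zero_iff.mp e)
  suffices main : ∀ l : K, g (l • v) ∈ K ∙ a by
    have h1 := main (k * k₀⁻¹)
    have h2 := main k₀⁻¹
    rw [hv, smul_smul, mul_assoc, inv_mul_cancel₀ hk₀, mul_one] at h1
    rw [hv, smul_smul, inv_mul_cancel₀ hk₀, one_smul] at h2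
    obtain ⟨x, hx⟩ := Submodule.mem_span_singleton.mp h2
    have hx0 : x ≠ 0 := fun e => hu0 (g.map_eq_zero_iff.mp (by rw [← hx, e, zero_smul]))
    obtain ⟨y, hy⟩ := Submodule.mem_span_singleton.mp h1
    exact Submodule.mem_span_singleton.mpr ⟨y * x⁻¹, by
      rw [← hx, smul_smul, mul_assoc, inv_mul_cancel₀ hx0, mul_one, hy]⟩
  by_contra hnot
  -- the part of `K` carried into the line of `a`
  let Λ : Submodule F K :=
    { carrier := {l | g (l • v) ∈ K ∙ a}
      add_mem' := fun {l l'} hl hl' => by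
        show g ((l + l') • v) ∈ K ∙ a
        rw [add_smul, map_add]; exact Submodule.add_mem _ hl hl'
      zero_mem' := by show g ((0 : K) • v) ∈ K ∙ a; simp
      smul_mem' := fun c l hl => by
        show g ((c • l) • v) ∈ K ∙ a
        rw [smul_assoc, map_smul, ← algebraMap_smul K c (g (l • v))]
        exact Submodule.smul_mem _ _ hl }
  have hΛ1 : (1 : K) ∈ Λ := by
    show g ((1 : K) • v) ∈ K ∙ a
    rw [one_smul]; exact Submodule.mem_span_singleton_self a
  have hΛne : Λ ≠ ⊤ := fun e => hnot fun l => (show l ∈ Λ from e ▸ Submodule.mem_top)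
  let hmap : K →ₗ[F] K :=
    { toFun := fun l => H (g (l • v)) a
      map_add' := fun l l' => by rw [add_smul, map_add, h.add_left]
      map_smul' := fun c l => by
        rw [smul_assoc, map_smul, ← algebraMap_smul K c (g (l • v)), h.smul_left, Algebra.smul_def,
          RingHom.id_apply] }
  have hmap_apply : ∀ l, hmap l = H (g (l • v)) a := fun l => rfl
  have hker : ∀ l ∈ Λ, hmap l = 0 := fun l hl => by
    obtain ⟨i, hi⟩ := Submodule.mem_span_singleton.mp hl
    rw [hmap_apply, ← hi, h.smul_left, ha, mul_zero]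
  -- the `K`-linear maps of `M` fixing `a`
  have step : ∀ (l j : K) (t : V ≃ₗ[F] V), t ∈ M → j ∈ Λ → (∀ i : K, t (i • a) = i • a) →
      t (g (l • v)) = g (l • v) + g (j • v) → l ∉ Set.range (algebraMap F K) →
      ∃ τ : K ≃ₐ[F] K, (∀ i ∈ Λ, τ i = i) ∧ τ l = l + j := by
    intro l j t ht hj hta htl hl
    refine h.exists_aut hv0 hvv (hall v hv0 hvv) Λ hΛ1 hl hj
      (M.mul_mem (M.mul_mem (M.inv_mem hg) ht) hg) (fun i hi => ?_) ?_
    · obtain ⟨x, hx⟩ := Submodule.mem_span_singleton.mp hi
      show g.symm (t (g (i • v))) = i • v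
      rw [← hx, hta, g.symm_apply_eq, hx]
    · show g.symm (t (g (l • v))) = (l + j) • v
      rw [htl, ← map_add, g.symm_apply_apply, add_smul]
  have hscalar : ∀ l, l ∉ Λ → l ∉ Set.range (algebraMap F K) := by
    rintro l hl ⟨c, rfl⟩
    exact hl (by rw [Algebra.algebraMap_eq_smul_one]; exact Λ.smul_mem c hΛ1)
  -- Siegel maps, for a vector orthogonal to `a`
  have siegStep : ∀ l, l ∉ Λ → hmap l = 0 → ∀ c : F,
      ∃ τ : K ≃ₐ[F] K, (∀ i ∈ Λ, τ i = i) ∧ τ l = l + algebraMap F K c := by
    intro l hl hl0 c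
    have hcΛ : algebraMap F K c ∈ Λ := by rw [Algebra.algebraMap_eq_smul_one]; exact Λ.smul_mem c hΛ1
    obtain ⟨w, hw1, hw2⟩ := h.exists_eval (a := g (l • v)) (u := a) hl
    set w' := γ (algebraMap F K c) • w with hw'
    obtain ⟨d, hd⟩ := h.exists_d w'
    obtain ⟨t, ht, et⟩ := h.sieg a w' d ha (by rw [hw', h.smul_right, hw1, mul_zero]) hd
    refine step l _ t ht hcΛ (fun i => ?_) ?_ (hscalar l hl)
    · simp [et, h.smul_left, ha, hw', h.smul_right, hw1]
    · rw [hmap_apply] at hl0
      rw [et, hl0, hw', h.smul_right, h.γ_γ, hw2, mul_one, mul_zero, zero_smul, zero_smul, sub_zero,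
        add_zero, algebraMap_smul, algebraMap_smul, hgv, ← map_smul]
  -- transvections at `a`
  have tvStep : ∀ (l j : K) (d : K), l ∉ Λ → j ∈ Λ → d + γ d = 0 →
      (d * hmap l) • a = g (j • v) →
      ∃ τ : K ≃ₐ[F] K, (∀ i ∈ Λ, τ i = i) ∧ τ l = l + j := by
    intro l j d hl hj hd e
    obtain ⟨t, ht, et⟩ := h.transvection (u := a) ha hd
    refine step l j t ht hj (fun i => ?_) ?_ (hscalar l hl)
    · simp [et, h.smul_left, ha]
    · rw [et, ← e, hmap_apply]
  by_cases hbig : ∃ l₀ ∈ Λ, l₀ ∉ Set.range (algebraMap F K)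
  · -- the automorphisms fixing `Λ` are trivial
    obtain ⟨l₀, hl₀, hl₀F⟩ := hbig
    have htriv : ∀ τ : K ≃ₐ[F] K, (∀ i ∈ Λ, τ i = i) → ∀ x, τ x = x := by
      intro τ hτ x
      have hm : l₀ ∈ AlgHom.equalizer τ.toAlgHom (AlgHom.id F K) := hτ l₀ hl₀
      rcases (Subalgebra.isSimpleOrder_of_finrank_prime F K h.prime).eq_bot_or_eq_top
          (AlgHom.equalizer τ.toAlgHom (AlgHom.id F K)) with hE | hE
      · rw [hE] at hm; exact absurd (Algebra.mem_bot.mp hm) hl₀F
      · exact (hE ▸ Algebra.mem_top : x ∈ AlgHom.equalizer τ.toAlgHom (AlgHom.id F K))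
    by_cases hz : ∃ l, l ∉ Λ ∧ hmap l = 0
    · obtain ⟨l, hl, hl0⟩ := hz
      obtain ⟨τ, hτ, e⟩ := siegStep l hl hl0 1
      rw [htriv τ hτ, map_one, left_eq_add] at e
      exact one_ne_zero e
    simp only [not_exists, not_and] at hz
    have hkΛ : LinearMap.ker hmap = Λ := le_antisymm
      (fun l hl => by_contra fun hl' => hz l hl' (LinearMap.mem_ker.1 hl))
      (fun l hl => LinearMap.mem_ker.2 (hker l hl))
    obtain ⟨e, he, he'⟩ := h.exists_skew
    set eK := algebraMap F K e
    have heK : γ eK = -eK := by rw [h.γ_alg, he', map_neg]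
    have hcardK : Nat.card (LinearMap.range hmap) * Nat.card Λ = Nat.card K := by
      rw [← hkΛ, Module.natCard_eq_pow_finrank (K := F), Module.natCard_eq_pow_finrank (K := F)
        (V := LinearMap.ker hmap), ← pow_add, LinearMap.finrank_range_add_finrank_ker,
        ← Module.natCard_eq_pow_finrank]
    have hR := h.card_real
    have hcase : Nat.card (realSub γ) < Nat.card (LinearMap.range hmap) ∨
        Nat.card (realSub γ) < Nat.card Λ := by
      by_contra hh
      simp only [not_or, not_lt] at hh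
      have hle := Nat.mul_le_mul hh.1 hh.2
      rw [hcardK, ← hR, sq] at hle
      have heq : Nat.card Λ = Nat.card (realSub γ) := by
        rcases hh.2.eq_or_lt with e' | e'
        · exact e'
        · have h1 : Nat.card (LinearMap.range hmap) * Nat.card Λ <
              Nat.card (realSub γ) * Nat.card (realSub γ) :=
            lt_of_le_of_lt (Nat.mul_le_mul_right _ hh.1) (Nat.mul_lt_mul_of_pos_left e' Nat.card_pos)
          rw [hcardK, ← sq, hR] at h1
          exact absurd h1 (lt_irrefl _)
      rw [← heq, Module.natCard_eq_pow_finrank (K := F) (V := Λ), ← pow_mul,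
        Module.natCard_eq_pow_finrank (K := F) (V := K)] at hR
      have := Nat.pow_right_injective (Finite.one_lt_card (α := F)) hR
      have hodd := h.odd
      rw [← this, Nat.odd_iff] at hodd
      omega
    rcases hcase with hI | hL
    · obtain ⟨s, hs1, hs2, hs0⟩ := exists_mem_inf (LinearMap.range hmap).toAddSubgroup (skewSub γ)
        (by rw [h.card_skew, ← hR, sq]; exact Nat.mul_lt_mul_of_pos_right hI Nat.card_pos)
      obtain ⟨l, rfl⟩ := LinearMap.mem_range.1 hs1
      have hs2' : γ (hmap l) = - hmap l := hs2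
      have hl : l ∉ Λ := fun hl => hs0 (hker l hl)
      obtain ⟨τ, hτ, e'⟩ := tvStep l 1 (hmap l)⁻¹ hl hΛ1
        (by rw [map_inv₀, hs2', inv_neg, add_neg_cancel])
        (by rw [inv_mul_cancel₀ hs0, one_smul, one_smul])
      rw [htriv τ hτ, left_eq_add] at e'
      exact one_ne_zero e'
    · obtain ⟨l, -, hl⟩ := SetLike.exists_of_lt (lt_top_iff_ne_top.2 hΛne)
      have hs : hmap l ≠ 0 := fun e' => hz l hl e'
      -- the multipliers carried by `Λ`
      have hex : ∀ i : Λ, ∃ x : K, x • a = g ((i : K) • v) := fun i =>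
        Submodule.mem_span_singleton.mp i.2
      choose ρ hρ using hex
      let S : AddSubgroup K :=
        { carrier := Set.range fun i : Λ => ρ i / hmap l
          add_mem' := by
            rintro _ _ ⟨i, rfl⟩ ⟨i', rfl⟩
            refine ⟨i + i', ?_⟩
            show ρ (i + i') / hmap l = ρ i / hmap l + ρ i' / hmap l
            rw [← add_div]
            congr 1
            refine smul_left_injective K ha0 ?_
            show ρ (i + i') • a = (ρ i + ρ i') • a
            rw [add_smul, hρ, hρ, hρ, Submodule.coe_add, add_smul, map_add]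
          zero_mem' := by
            refine ⟨0, ?_⟩
            show ρ 0 / hmap l = 0
            rw [div_eq_zero_iff]
            refine Or.inl (smul_left_injective K ha0 ?_)
            show ρ 0 • a = (0 : K) • a
            rw [hρ]; simp
          neg_mem' := by
            rintro _ ⟨i, rfl⟩
            refine ⟨-i, ?_⟩
            show ρ (-i) / hmap l = -(ρ i / hmap l)
            rw [← neg_div]
            congr 1
            refine smul_left_injective K ha0 ?_
            show ρ (-i) • a = (-ρ i) • a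
            rw [neg_smul, hρ, hρ, Submodule.coe_neg, neg_smul, map_neg] }
      have hS : Nat.card Λ ≤ Nat.card S := by
        refine Nat.card_le_card_of_injective (fun i : Λ => (⟨ρ i / hmap l, ⟨i, rfl⟩⟩ : S)) ?_
        intro i i' e'
        have e'' : ρ i = ρ i' := (div_left_inj' hs).1 (congrArg Subtype.val e')
        have e3 : g ((i : K) • v) = g ((i' : K) • v) := by rw [← hρ, ← hρ, e'']
        exact Subtype.ext (smul_left_injective K hv0 (g.injective e3))
      obtain ⟨d, ⟨i, hi⟩, hd, hd0⟩ := exists_mem_inf S (skewSub γ)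
        (by rw [h.card_skew, ← hR, sq]
            exact Nat.mul_lt_mul_of_pos_right (hL.trans_le hS) Nat.card_pos)
      simp only at hi
      obtain ⟨τ, hτ, e'⟩ := tvStep l i d hl i.2
        (by rw [show γ d = -d from hd, add_neg_cancel])
        (by rw [← hi, div_mul_cancel₀ _ hs, hρ])
      rw [htriv τ hτ, left_eq_add] at e'
      refine hd0 ?_
      rw [← hi, div_eq_zero_iff]
      refine Or.inl (smul_left_injective K ha0 ?_)
      show ρ i • a = (0 : K) • a
      rw [hρ, e']; simp
  -- `Λ` consists of the scalars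
  simp only [not_exists, not_and, not_not] at hbig
  have h3 : 3 ≤ finrank F K := by
    have := h.prime.two_le
    rcases this.eq_or_lt with e | e
    · have := h.odd; rw [← e] at this; exact absurd this (by decide)
    · exact e
  by_cases hz : ∃ l, l ∉ Λ ∧ hmap l = 0
  · obtain ⟨l, hl, hl0⟩ := hz
    obtain ⟨τ₁, -, e₁⟩ := siegStep l hl hl0 1
    obtain ⟨c, hc⟩ : ∃ c, σ c ≠ c := by
      by_contra hh
      simp only [not_exists, not_not] at hh
      exact h.σ_ne (RingEquiv.ext hh)
    obtain ⟨τ, -, e⟩ := siegStep l hl hl0 c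
    rw [map_one] at e₁
    have hτ₁ : τ₁ ≠ 1 := fun e' => by
      rw [e', AlgEquiv.one_apply, left_eq_add] at e₁; exact one_ne_zero e₁
    haveI := Fact.mk h.prime
    obtain ⟨n, rfl⟩ := mem_powers_iff_mem_zpowers.mpr
      (mem_zpowers_of_prime_card (g := τ₁) (g' := τ) (p := finrank F K)
        (IsGalois.card_aut_eq_finrank F K) hτ₁)
    have hpow : ∀ m : ℕ, (τ₁ ^ m) l = l + m := by
      intro m
      induction m with
      | zero => simp
      | succ m ih => rw [pow_succ', AlgEquiv.mul_apply, ih, map_add, map_natCast, e₁]; push_cast; ring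
    simp only [hpow, add_right_inj] at e
    have hcn : c = (n : F) := (algebraMap F K).injective (by rw [map_natCast, ← e])
    exact hc (by rw [hcn, map_natCast])
  simp only [not_exists, not_and] at hz
  have hkΛ : LinearMap.ker hmap = Λ := le_antisymm
    (fun l hl => by_contra fun hl' => hz l hl' (LinearMap.mem_ker.1 hl))
    (fun l hl => LinearMap.mem_ker.2 (hker l hl))
  have hΛspan : Λ = F ∙ (1 : K) := by
    refine le_antisymm (fun l hl => ?_) ((Submodule.span_singleton_le_iff_mem _ _).2 hΛ1)
    obtain ⟨c, rfl⟩ := hbig l hl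
    rw [Algebra.algebraMap_eq_smul_one]
    exact Submodule.smul_mem _ _ (Submodule.mem_span_singleton_self 1)
  have hTker : LinearMap.range hmap = LinearMap.ker (Algebra.trace F K) := by
    refine Submodule.eq_of_le_of_finrank_le ?_ ?_
    · rintro _ ⟨l, rfl⟩
      rw [LinearMap.mem_ker, hmap_apply, hgv, h.iso g hg, h.smul_left, hvv, mul_zero, map_zero]
    · have h1 := LinearMap.finrank_range_add_finrank_ker hmap
      have h2 := LinearMap.finrank_range_add_finrank_ker (Algebra.trace F K)
      rw [hkΛ, hΛspan, finrank_span_singleton (one_ne_zero (α := K))] at h1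
      rw [LinearMap.range_eq_top.2 (Algebra.trace_surjective F K), finrank_top, Module.finrank_self] at h2
      omega
  obtain ⟨E, hE, hE1, hEbad⟩ := exists_bad (F := F) (K := K) h.prime h3
  have hΛE : LinearMap.ker hmap ≤ E := by
    rw [hkΛ, hΛspan, Submodule.span_singleton_le_iff_mem]; exact hE1
  obtain ⟨s, l, hls, hsγ, hlE⟩ : ∃ s l, hmap l = s ∧ γ s = -s ∧ l ∉ E := by
    by_contra hh
    simp only [not_exists, not_and, not_not] at hh
    refine hE (eq_top_iff.2 fun l _ => ?_)
    obtain ⟨e, he, he'⟩ := h.exists_skew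
    obtain ⟨f₀, hf₀⟩ := h.exists_not_real
    set eK := algebraMap F K e
    have heK : γ eK = -eK := by rw [h.γ_alg, he', map_neg]
    have heK0 : eK ≠ 0 := (map_ne_zero _).2 he
    set fK := algebraMap F K f₀
    obtain ⟨x, y, hx, hy, hxy⟩ := h.decomp hf₀ (hmap l / eK)
    have htl : Algebra.trace F K (hmap l) = 0 :=
      LinearMap.mem_ker.1 (hTker ▸ LinearMap.mem_range_self hmap l)
    have hl' : hmap l = eK * x + fK * (eK * y) := by
      rw [eq_comm, ← sub_eq_zero]
      have := mul_div_cancel₀ (hmap l) heK0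
      rw [hxy] at this
      linear_combination this
    have hskx : γ (eK * x) = -(eK * x) := by rw [map_mul, heK, hx, neg_mul]
    have hsky : γ (eK * y) = -(eK * y) := by rw [map_mul, heK, hy, neg_mul]
    -- both skew parts have trace zero
    have hconj : Algebra.trace F K (γ (hmap l)) = 0 := by rw [h.γ_trace, htl, map_zero]
    have hty : Algebra.trace F K (eK * y) = 0 := by
      have e1 : γ (hmap l) + hmap l = (fK - γ fK) * (eK * y) := by
        rw [hl', map_add, map_mul γ fK, hskx, hsky]; ring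
      have e2 := congrArg (Algebra.trace F K) e1
      rw [map_add, hconj, htl, add_zero, h.γ_alg, ← map_sub, ← Algebra.smul_def, map_smul,
        smul_eq_mul] at e2
      refine (mul_eq_zero.1 e2.symm).resolve_left (sub_ne_zero.2 fun e3 => hf₀ ?_)
      rw [h.γ_alg, ← e3]
    have htx : Algebra.trace F K (eK * x) = 0 := by
      have e1 : eK * x = hmap l - fK * (eK * y) := by rw [hl']; ring
      rw [e1, map_sub, htl, ← Algebra.smul_def, map_smul, hty, smul_zero, sub_zero]
    have hin : ∀ s : K, γ s = -s → Algebra.trace F K s = 0 → ∃ i ∈ E, hmap i = s := by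
      intro s hs1 hs2
      obtain ⟨i, hi⟩ := LinearMap.mem_range.1
        (show s ∈ LinearMap.range hmap from hTker ▸ LinearMap.mem_ker.2 hs2)
      exact ⟨i, hh s i hi hs1, hi⟩
    obtain ⟨i, hiE, hi⟩ := hin _ hskx htx
    obtain ⟨i', hi'E, hi'⟩ := hin _ hsky hty
    have hd : l - (i + f₀ • i') ∈ E := hΛE (LinearMap.mem_ker.2 (by
      rw [map_sub, map_add, map_smul, hi, hi', Algebra.smul_def, hl']; ring))
    simpa using Submodule.add_mem _ hd (Submodule.add_mem _ hiE (E.smul_mem f₀ hi'E))
  have hlΛ : l ∉ Λ := fun hl => hlE (hΛE (hkΛ.symm ▸ hl))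
  have hs0 : hmap l ≠ 0 := hz l hlΛ
  obtain ⟨τ, -, e⟩ := tvStep l 1 (hmap l)⁻¹ hlΛ hΛ1
    (by rw [map_inv₀, hls, hsγ, inv_neg, add_neg_cancel])
    (by rw [inv_mul_cancel₀ hs0, one_smul, one_smul])
  exact hlE (hEbad τ l e)

/-- A map sending isotropic lines into lines, with semilinear line stabilisers, is semilinear. -/
theorem isSemi_of_lines (hall : ∀ u : V, u ≠ 0 → H u u = 0 → OnlyMul M K u) {g : V ≃ₗ[F] V}
    (hg : g ∈ M) : ExtFieldMax.IsSemi K g := by
  classical
  haveI : Finite K := Module.finite_of_finite F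
  have hloc : ∀ u : V, u ≠ 0 → H u u = 0 → H (g u) (g u) = 0 ∧
      ∃ τ : K ≃ₐ[F] K, ∀ k : K, g (k • u) = τ k • g u := by
    intro u hu0 hu
    have hline := h.map_line hall hg hu0 hu
    have hgu0 : g u ≠ 0 := fun e => hu0 (g.map_eq_zero_iff.mp e)
    have hex : ∀ k : K, ∃ j : K, g (k • u) = j • g u := fun k => by
      obtain ⟨j, hj⟩ := Submodule.mem_span_singleton.mp (hline k); exact ⟨j, hj.symm⟩
    choose f hf using hex
    have hgu : H (g u) (g u) = 0 := by
      refine h.tr_extγ fun k => ?_
      rw [zero_mul, map_zero]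
      have hsur : ∃ j, f j = k := by
        have hinj : Function.Injective f := fun x y e => smul_left_injective K hu0
          (g.injective (show g (x • u) = g (y • u) by rw [hf, hf, e]))
        exact (Finite.injective_iff_surjective.1 hinj) k
      obtain ⟨j, rfl⟩ := hsur
      have e := h.iso g hg u (j • u)
      rw [hf, h.smul_right, h.smul_right, hu, mul_zero, map_zero, mul_comm] at e
      exact e
    refine ⟨hgu, ?_⟩
    obtain ⟨t, ht, c, hc, et, lt⟩ := h.exists_map hgu0 hgu hu0 hu
    let a : K →ₗ[F] K :=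
      { toFun := fun k => f k * c
        map_add' := fun x y => smul_left_injective K hu0 (by
          show (f (x + y) * c) • u = (f x * c + f y * c) • u
          rw [add_smul, mul_smul, mul_smul, mul_smul, ← et, ← lt, ← lt, ← lt, ← hf, ← hf, ← hf,
            add_smul, map_add, map_add])
        map_smul' := fun r x => smul_left_injective K hu0 (by
          show (f (r • x) * c) • u = (r • (f x * c)) • u
          rw [smul_assoc, mul_smul, mul_smul, ← et, ← lt, ← lt, ← hf, ← hf, smul_assoc, map_smul,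
            map_smul]) }
    have ha : ∀ k, (t * g) (k • u) = a k • u := fun k => by
      rw [LinearEquiv.mul_apply, hf, lt, et, smul_smul]; rfl
    have hmul := hall u hu0 hu _ (M.mul_mem ht hg) a ha
    have hf1 : f 1 = 1 := smul_left_injective K hgu0 (by
      show f 1 • g u = (1 : K) • g u
      rw [← hf, one_smul, one_smul])
    have hfm : ∀ k z, f (k * z) = f k * f z := fun k z => by
      have := hmul k z
      simp only [a, LinearMap.coe_mk, AddHom.coe_mk, hf1, one_mul] at this
      exact mul_right_cancel₀ hc (mul_right_cancel₀ hc (by linear_combination this))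
    let fL : K →ₗ[F] K :=
      { toFun := f
        map_add' := fun x y => smul_left_injective K hgu0 (by
          show f (x + y) • g u = (f x + f y) • g u
          rw [add_smul, ← hf, ← hf, ← hf, add_smul, map_add])
        map_smul' := fun r x => smul_left_injective K hgu0 (by
          show f (r • x) • g u = (r • f x) • g u
          rw [smul_assoc, ← hf, ← hf, smul_assoc, map_smul]) }
    let φ : K →ₐ[F] K := AlgHom.ofLinearMap fL hf1 hfm
    exact ⟨AlgEquiv.ofBijective φ φ.bijective, hf⟩
  choose hiso τ hτ using hloc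
  have hadj : ∀ (u v : V) (hu0 : u ≠ 0) (hu : H u u = 0) (hv0 : v ≠ 0) (hv : H v v = 0),
      H u v ≠ 0 → τ u hu0 hu = τ v hv0 hv := by
    intro u v hu0 hu hv0 hv huv
    set A := τ u hu0 hu
    set B := τ v hv0 hv
    have key : ∀ k l : K, Algebra.trace F K (A k * γ (B l) * H (g u) (g v)) =
        Algebra.trace F K (A (k * γ l * H u v)) := fun k l => by
      have := h.iso g hg (k • u) (l • v)
      rw [hτ u hu0 hu, hτ v hv0 hv, h.smul_left, h.smul_right, h.smul_left, h.smul_right,
        ← mul_assoc, ← mul_assoc] at this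
      rw [this, Algebra.trace_eq_of_algEquiv]
    have hs : H (g u) (g v) = A (H u v) := h.tr_extγ fun y => by
      obtain ⟨k, hk⟩ := A.surjective (γ y)
      have e := key k 1
      rw [map_one B, map_one γ, mul_one, mul_one, map_mul A, hk] at e
      rw [mul_comm, e, mul_comm]
    refine AlgEquiv.ext fun l => ?_
    have hne : A (H u v) ≠ 0 := (map_ne_zero A).2 huv
    have e : γ (B l) * A (H u v) = A (γ l) * A (H u v) := h.tr_extγ fun y => by
      obtain ⟨k, hk⟩ := A.surjective (γ y)
      have e := key k l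
      rw [hs, map_mul A, map_mul A, hk] at e
      calc _ = Algebra.trace F K (γ y * γ (B l) * A (H u v)) := by congr 1; ring
        _ = _ := by rw [e]; congr 1; ring
    have e' := congrArg γ (mul_right_cancel₀ hne e)
    rw [h.γ_γ, ringEquiv_comm γ A, h.γ_γ] at e'
    exact e'.symm
  obtain ⟨u₀, v₀, hu0, hu, hv, huv⟩ : ∃ u v : V, u ≠ 0 ∧ H u u = 0 ∧ H v v = 0 ∧ H u v = 1 := by
    obtain ⟨u, hu0, hu⟩ := h.exists_singular
    obtain ⟨v, hv, huv⟩ := h.exists_dual hu0 hu
    exact ⟨u, v, hu0, hu, hv, huv⟩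
  let S : Submodule K V :=
    { carrier := {x | ∀ k, g (k • x) = τ u₀ hu0 hu k • g x}
      add_mem' := fun {x y} hx hy k => by simp [smul_add, hx k, hy k]
      zero_mem' := fun k => by simp
      smul_mem' := fun l x hx k => by rw [smul_smul, hx, hx, smul_smul, map_mul] }
  have hsing : ∀ w : V, H w w = 0 → w ∈ S := by
    intro w hw k
    rcases eq_or_ne w 0 with rfl | hw0
    · simp
    obtain ⟨z, hz, hz1, hz2⟩ := h.exists_third hu0 hu hw0 hw
    have hz0 : z ≠ 0 := fun e => hz1 (by simp [e, h.zero_right])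
    rw [hτ w hw0 hw, hadj w z hw0 hw hz0 hz hz2, hadj u₀ z hu0 hu hz0 hz hz1]
  intro k
  refine ⟨τ u₀ hu0 hu k, fun x => ?_⟩
  have hx : x ∈ S := by
    set y := x - H x v₀ • u₀ - H x u₀ • v₀ with hy
    have hvu : H v₀ u₀ = 1 := by rw [← h.herm, huv, map_one]
    have h1 : H y u₀ = 0 := by simp [hy, h.sub_left, h.smul_left, hu, hvu]
    have h2 : H y v₀ = 0 := by simp [hy, h.sub_left, h.smul_left, hv, huv]
    obtain ⟨d, hd⟩ := h.exists_d y
    have hy1 : y + u₀ + γ d • v₀ ∈ S := hsing _ (by
      simp only [h.add_left, h.add_right, h.smul_left, h.smul_right, h.γ_γ, hu, hv, huv, hvu, h1, h2,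
        h.eq_zero_comm h1, h.eq_zero_comm h2]
      linear_combination hd)
    have e : x = (y + u₀ + γ d • v₀) + ((H x v₀ - 1) • u₀ + (H x u₀ - γ d) • v₀) := by
      rw [hy]; module
    rw [e]
    exact S.add_mem hy1 (S.add_mem (S.smul_mem _ (hsing _ hu)) (S.smul_mem _ (hsing _ hv)))
  exact hx k

end Setup

end CfsgLib.ExtFieldUnit
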