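import Mathlib
import Cfsg.Agent.Lib.ExtFieldUnit.Lines

/-!
An overgroup of the unitary group over `K` with a member which is not semilinear contains all
transvections over `F` at vectors isotropic over `K`.
-/

set_option autoImplicit false
set_option linter.unusedSectionVars false
set_option linter.unusedVariables false
set_option linter.style.haveILetI false

namespace CfsgLib.ExtFieldUnit

open Module
open CfsgLib.ExtFieldSymp (ev ev_apply ev_add ev_single_one ev_surjective ev_comp eq_zero_of_forall)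

variable {F K V : Type*} [Field F] [Fintype F] [Field K] [Algebra F K] [AddCommGroup V]
  [Module F V] [Module K V] [IsScalarTower F K V] [FiniteDimensional F V]
  [FiniteDimensional F K] [FiniteDimensional K V]

lemma sum_single_mul [DecidableEq (K ≃ₐ[F] K)] (t : K ≃ₐ[F] K) (z μ : K) :
    ∑ p, (Pi.single t z : (K ≃ₐ[F] K) → K) p * p μ = z * t μ := by
  rw [Finset.sum_eq_single t (fun p _ hp => by rw [Pi.single_eq_of_ne hp, zero_mul]) (by simp)]
  simp

namespace Setup

variable {M : Subgroup (V ≃ₗ[F] V)} {H : V → V → K} {γ : K ≃+* K} {σ : F ≃+* F} {ν : K}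
  (h : Setup M H γ σ ν)
include h

/-- A line stabiliser which is not semilinear on the line makes the support everything. -/
lemma full_of_not_semi {u : V} (hu0 : u ≠ 0) (hu : H u u = 0) {g : V ≃ₗ[F] V} (hg : g ∈ M)
    {a : Module.End F K} (ha : ∀ k : K, g (k • u) = a k • u)
    (hns : ¬ ∀ k z, a (k * z) * a 1 = a k * a z) : Full M H u := by
  classical
  haveI : Finite K := Module.finite_of_finite F
  by_contra hfull
  simp only [Full, not_forall, not_exists, not_and, not_not] at hfull
  obtain ⟨t₀, ht₀⟩ := hfull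
  have hinj : Function.Injective a := fun x y hxy =>
    smul_left_injective K hu0 (g.injective (by rw [ha, ha, hxy]))
  let A : K ≃ₗ[F] K := LinearEquiv.ofBijective a
    ⟨hinj, LinearMap.injective_iff_surjective.mp hinj⟩
  have hAa : ∀ k, a (A.symm k) = k := A.apply_symm_apply
  have hginv : ∀ k : K, (g⁻¹ : V ≃ₗ[F] V) (k • u) = A.symm.toLinearMap k • u := fun k => by
    refine g.injective ?_
    show g (g.symm (k • u)) = _
    rw [g.apply_symm_apply, ha, LinearEquiv.coe_coe, hAa]
  obtain ⟨b, hb⟩ := ev_surjective (F := F) a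
  obtain ⟨c, hc⟩ := ev_surjective (F := F) A.symm.toLinearMap
  have hb' : IsAdj γ a (ev (adjH γ b)) := hb ▸ isAdj_adjH h.γ_γ b
  have hc' : IsAdj γ A.symm.toLinearMap (ev (adjH γ c)) := hc ▸ isAdj_adjH h.γ_γ c
  obtain ⟨e₀, he₀, he₀'⟩ := h.exists_skew
  set eK := algebraMap F K e₀
  have heK : eK + γ eK = 0 := by rw [h.γ_alg, he₀', map_neg, add_neg_cancel]
  have heK0 : eK ≠ 0 := (map_ne_zero _).2 he₀
  refine hns ?_
  suffices hmulr : ∀ k : K, γ k = k → ∃ m : K, ∀ z, a (k * A.symm z) = m * z by
    have hmul : ∀ k : K, ∃ m : K, ∀ z, a (k * A.symm z) = m * z := by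
      intro k
      obtain ⟨l, hl⟩ := h.exists_not_real
      obtain ⟨x, y, hx, hy, rfl⟩ := h.decomp hl k
      obtain ⟨m, hm⟩ := hmulr x hx
      obtain ⟨m', hm'⟩ := hmulr y hy
      exact ⟨m + algebraMap F K l * m', fun z => by
        rw [add_mul, map_add, hm, mul_assoc, ← Algebra.smul_def, map_smul, hm', Algebra.smul_def]
        ring⟩
    intro k z
    obtain ⟨m, hm⟩ := hmul k
    have e1 : a k = m * a 1 := by
      have := hm (a 1)
      rwa [show A.symm (a 1) = 1 from A.symm_apply_apply 1, mul_one] at this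
    have e2 : a (k * z) = m * a z := by
      have := hm (a z)
      rwa [show A.symm (a z) = z from A.symm_apply_apply z] at this
    rw [e1, e2]; ring
  intro k hk
  obtain ⟨x, hx⟩ := ev_surjective (F := F) (a ∘ₗ LinearMap.mulLeft F k ∘ₗ A.symm.toLinearMap)
  have hx' : IsAdj γ (a ∘ₗ LinearMap.mulLeft F k ∘ₗ A.symm.toLinearMap)
      (ev (adjH γ c) ∘ₗ LinearMap.mulLeft F k ∘ₗ ev (adjH γ b)) := fun p q => by
    simp only [LinearMap.comp_apply, LinearMap.mulLeft_apply]
    rw [hb', mul_comm k, mul_assoc]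
    conv_lhs => rw [show k * γ (ev (adjH γ b) q) = γ (k * ev (adjH γ b) q) by rw [map_mul, hk]]
    rw [hc']
  have hadj : ev (adjH γ x) = ev (adjH γ c) ∘ₗ LinearMap.mulLeft F k ∘ₗ ev (adjH γ b) :=
    h.adj_eq (isAdj_adjH h.γ_γ x) (hx ▸ hx')
  have hg' : ∀ d : (K ≃ₐ[F] K) → K, ev d ∈ rootSet M H u →
      ev x ∘ₗ ev d + ev d ∘ₗ ev (adjH γ x) ∈ rootSet M H u := by
    intro d hd
    have h0 := h.rootSet_conj (M.inv_mem hg) hginv hc' hd
    have h1 := h.polar_mem hu0 hu h0 hk (map_one γ)
    convert h.rootSet_conj hg ha hb' h1 using 1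
    have haA : ∀ z, ev (adjH γ c) (ev (adjH γ b) z) = z := fun z => h.tr_extγ fun p => by
      have e : Algebra.trace F K (p * γ (ev (adjH γ c) (ev (adjH γ b) z))) =
          Algebra.trace F K (p * γ z) := by rw [← hc', ← hb', LinearEquiv.coe_coe, hAa]
      have e' := congrArg σ e
      rw [← h.γ_trace, ← h.γ_trace, map_mul γ, map_mul γ, h.γ_γ, h.γ_γ, mul_comm, mul_comm (γ p)] at e'
      exact e'
    refine LinearMap.ext fun z => ?_
    rw [hx, hadj]
    simp only [LinearMap.add_apply, LinearMap.comp_apply, LinearMap.mulLeft_apply, one_mul,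
      LinearEquiv.coe_coe, map_add, hAa]
    rw [haA]
  -- supported on the identity
  have hsupp : ∀ j : K ≃ₐ[F] K, j ≠ 1 → x j = 0 := by
    intro j hj
    have heq : ∀ d : (K ≃ₐ[F] K) → K, ev d ∈ rootSet M H u → ∀ t : K ≃ₐ[F] K,
        (∀ d', ev d' ∈ rootSet M H u → d' t = 0) →
        (∑ i, x i * i (d (i⁻¹ * t))) + ∑ i, d i * γ (t (x (t⁻¹ * i))) = 0 := by
      intro d hd t ht
      have e := hg' d hd
      rw [ev_comp, ev_comp, ← ev_add] at e
      have e' := ht _ e
      simp only [Pi.add_apply, adjH, mul_inv_rev, inv_inv] at e'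
      refine Eq.trans ?_ e'
      congr 1
      refine Finset.sum_congr rfl fun i _ => ?_
      rw [← ringEquiv_comm γ i, show i ((i⁻¹ * t) (x (t⁻¹ * i))) = t (x (t⁻¹ * i)) from
        i.apply_symm_apply (t (x (t⁻¹ * i)))]
    have hone : ∀ y : K, γ y = y →
        ev (Pi.single 1 (eK * y) : (K ≃ₐ[F] K) → K) ∈ rootSet M H u := fun y hy => by
      rw [ev_single_one (F := F)]
      exact h.mulLeft_mem_rootSet hu (by rw [map_mul, hy, ← add_mul, heK, zero_mul])
    have hone1 : ev (Pi.single 1 eK : (K ≃ₐ[F] K) → K) ∈ rootSet M H u := by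
      simpa using hone 1 (map_one γ)
    by_cases hjI : ∀ d, ev d ∈ rootSet M H u → d j = 0
    · have hz := congrFun (h.eq_zero_of_real
        (c := Pi.single j (x j * eK) + Pi.single 1 (eK * γ (j (x j⁻¹)))) fun y hy => ?_) j
      · rw [Pi.add_apply, Pi.single_eq_same, Pi.single_eq_of_ne hj, add_zero, Pi.zero_apply,
          mul_eq_zero] at hz
        exact hz.resolve_right heK0
      · have e := heq _ (hone y hy) j hjI
        rw [Finset.sum_eq_single j (fun i _ hi => by
            rw [Pi.single_eq_of_ne (fun e => hi (inv_mul_eq_one.mp e)), map_zero, mul_zero]) (by simp),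
          Finset.sum_eq_single (1 : K ≃ₐ[F] K) (fun i _ hi => by
            rw [Pi.single_eq_of_ne hi, zero_mul]) (by simp)] at e
        simp only [inv_mul_cancel, Pi.single_eq_same, mul_one, map_mul, AlgEquiv.commutes, eK] at e
        simp only [Pi.add_apply, add_mul, Finset.sum_add_distrib,
          sum_single_mul, AlgEquiv.one_apply]
        linear_combination e
    · obtain ⟨i, ⟨d, hd, hdi⟩, hji⟩ : ∃ i, (∃ d, ev d ∈ rootSet M H u ∧ d i ≠ 0) ∧
          ∀ d, ev d ∈ rootSet M H u → d (j * i) = 0 := by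
        by_contra hh
        simp only [not_exists, not_and, not_forall] at hh
        have hpow : ∀ n : ℕ, ∃ d, ev d ∈ rootSet M H u ∧ d (j ^ n) ≠ 0 := by
          intro n
          induction n with
          | zero => exact ⟨_, hone1, by simp [heK0]⟩
          | succ n ih =>
            obtain ⟨d, hd, hne⟩ := hh (j ^ n) ih
            exact ⟨d, hd, by rwa [pow_succ']⟩
        have : Fact (finrank F K).Prime := ⟨h.prime⟩
        have hgen : t₀ ∈ Subgroup.zpowers j :=
          mem_zpowers_of_prime_card (p := finrank F K) (IsGalois.card_aut_eq_finrank F K) hj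
        obtain ⟨n, rfl⟩ := mem_powers_iff_mem_zpowers.mpr hgen
        obtain ⟨d, hd, hne⟩ := hpow n
        exact hne (ht₀ d hd)
      set t := j * i with ht
      have ht1 : t ≠ 1 := fun e => by
        have := hji _ hone1
        rw [e, Pi.single_eq_same] at this
        exact heK0 this
      have htj : t ≠ j := fun e => by
        have hi1 : i = 1 := by simpa [ht] using e
        exact hjI (by intro d' hd'; simpa [ht, hi1] using hji d' hd')
      have hlin : ∀ μ μ' : K, γ μ = μ → γ μ' = μ' →
          (∑ p, (x p * p (d (p⁻¹ * t)) * t μ') * p μ) +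
          ((∑ p, x p * p (d (p⁻¹ * t)) * p μ') * t μ) +
          (∑ p, d p * γ (t (x (t⁻¹ * p))) * p μ') * μ +
          ∑ p, (d p * γ (t (x (t⁻¹ * p))) * μ') * p μ = 0 := by
        intro μ μ' hμ hμ'
        have e := heq _ (by rw [← h.ev_polar_real]; exact h.polar_mem hu0 hu hd hμ hμ') t hji
        refine Eq.trans ?_ e
        simp only [Finset.sum_mul, ← Finset.sum_add_distrib]
        refine Finset.sum_congr rfl fun p _ => ?_
        rw [map_mul, map_add, map_mul, map_mul]
        simp only [show ∀ z : K, p ((p⁻¹ * t) z) = t z from fun z => p.apply_symm_apply (t z)]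
        ring
      have hcoef : ∀ μ' : K, γ μ' = μ' →
          x j * j (d i) * t μ' + d j * γ (t (x (t⁻¹ * j))) * μ' = 0 := by
        intro μ' hμ'
        have hz := congrFun (h.eq_zero_of_real
          (c := (fun p => x p * p (d (p⁻¹ * t)) * t μ') +
            Pi.single t (∑ p, x p * p (d (p⁻¹ * t)) * p μ') +
            Pi.single 1 (∑ p, d p * γ (t (x (t⁻¹ * p))) * p μ') +
            fun p => d p * γ (t (x (t⁻¹ * p))) * μ') fun μ hμ => ?_) j
        · rw [Pi.add_apply, Pi.add_apply, Pi.add_apply, Pi.single_eq_of_ne htj.symm,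
            Pi.single_eq_of_ne hj] at hz
          simpa [ht] using hz
        · refine Eq.trans ?_ (hlin μ μ' hμ hμ')
          simp only [Pi.add_apply, add_mul, Finset.sum_add_distrib]
          rw [sum_single_mul, sum_single_mul]
          simp
      have hz := congrFun (h.eq_zero_of_real
        (c := Pi.single t (x j * j (d i)) + Pi.single 1 (d j * γ (t (x (t⁻¹ * j))))) fun μ' hμ' => ?_) t
      · simp [Pi.single_eq_of_ne ht1, hdi] at hz
        exact hz
      · refine Eq.trans ?_ (hcoef μ' hμ')
        simp only [Pi.add_apply, add_mul, Finset.sum_add_distrib]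
        rw [sum_single_mul, sum_single_mul]
        simp
  refine ⟨x 1, fun z => ?_⟩
  have e := LinearMap.congr_fun hx z
  rw [ev_apply, Finset.sum_eq_single (1 : K ≃ₐ[F] K)
    (fun i _ hi => by rw [hsupp i hi, zero_mul]) (by simp)] at e
  simpa using e.symm

/-- All transvections over `F` at isotropic vectors lie in `M`. -/
theorem all_transvections (hns : ∃ g ∈ M, ¬ ExtFieldMax.IsSemi K g) {u : V} (hu : H u u = 0)
    {e : F} (he : e + σ e = 0) :
    ∃ g ∈ M, ∀ x, g x = x + (e * Algebra.trace F K (H x u)) • u := by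
  obtain ⟨g₀, hg₀, hns⟩ := hns
  have hex : ∃ u₀ : V, u₀ ≠ 0 ∧ H u₀ u₀ = 0 ∧ ¬ OnlyMul M K u₀ := by
    by_contra hh
    simp only [not_exists, not_and, not_not] at hh
    exact hns (h.isSemi_of_lines hh hg₀)
  obtain ⟨u₀, hu₀0, hu₀, hM⟩ := hex
  have hM' : ∃ g ∈ M, ∃ a : K →ₗ[F] K, (∀ k : K, g (k • u₀) = a k • u₀) ∧
      ¬ ∀ k z, a (k * z) * a 1 = a k * a z := by
    by_contra hh
    exact hM fun g hg a ha => by_contra fun hn => hh ⟨g, hg, a, ha, hn⟩
  obtain ⟨g, hg, a, ha, hna⟩ := hM'
  exact h.transvection_mem hu₀0 hu₀ (h.full_of_not_semi hu₀0 hu₀ hg ha hna) hu he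

/-- A transvection over `F` is not semilinear. -/
lemma not_isSemi_of_transvection {u : V} (hu0 : u ≠ 0) (hu : H u u = 0) {e : F} (he : e ≠ 0)
    {g : V ≃ₗ[F] V} (eg : ∀ x, g x = x + (e * Algebra.trace F K (H x u)) • u) :
    ¬ ExtFieldMax.IsSemi K g := by
  haveI : Finite K := Module.finite_of_finite F
  intro hs
  obtain ⟨c, hc⟩ : ∃ c : K, c ∉ Set.range (algebraMap F K) := by
    by_contra hh
    simp only [not_exists, not_not] at hh
    have hle := LinearMap.finrank_range_le (Algebra.linearMap F K)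
    rw [LinearMap.range_eq_top.mpr (show Function.Surjective (Algebra.linearMap F K) from hh),
      finrank_top, Module.finrank_self] at hle
    have := h.prime.two_le
    omega
  obtain ⟨k, hk⟩ := hs c
  have hku : k = c := by
    have e1 := hk u
    rw [eg, eg, h.smul_left, hu, mul_zero, map_zero, mul_zero, zero_smul, add_zero, add_zero] at e1
    exact (smul_left_injective K hu0 e1).symm
  obtain ⟨a, ha⟩ := Algebra.trace_surjective F K 1
  obtain ⟨x, hx⟩ := h.exists_H_eq hu0 a
  have e1 := hk x
  rw [eg, eg, hku, hx, ha, h.smul_left, hx, smul_add, mul_one] at e1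
  have e2 := add_left_cancel e1
  rw [← algebraMap_smul K (e * Algebra.trace F K (c * a)) u, ← algebraMap_smul K e u, smul_smul] at e2
  refine hc ⟨Algebra.trace F K (c * a), ?_⟩
  have e3 := smul_left_injective K hu0 e2
  refine mul_right_cancel₀ ((map_ne_zero (algebraMap F K)).2 he) ?_
  rw [map_mul] at e3
  linear_combination e3

end Setup

end CfsgLib.ExtFieldUnit
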