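import Cfsg.Agent.Lib.ExtFieldUnit.Main
import Cfsg.Agent.Lib.ClassicalMax.UnitGen
import Cfsg.Agent.Lib.ClassicalMax.SympTools
import Cfsg.Agent.Lib.ClassicalMax.SympUnitary

/-!
The normaliser of an adjoint-closed extension field of odd prime degree is maximal in a special
unitary group, when the dimension over the extension is at least two.
-/

set_option autoImplicit false
set_option linter.unusedSectionVars false
set_option linter.unusedVariables false
set_option linter.style.haveILetI false

namespace CfsgLib.ExtFieldUnit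

namespace Setup

open Module

variable {F K V : Type*} [Field F] [Fintype F] [Field K] [Algebra F K] [AddCommGroup V]
  [Module F V] [Module K V] [IsScalarTower F K V] [FiniteDimensional F V]
  [FiniteDimensional F K] [FiniteDimensional K V]
  {M : Subgroup (V ≃ₗ[F] V)} {H : V → V → K} {γ : K ≃+* K} {σ : F ≃+* F} {ν : K}
  (h : Setup M H γ σ ν)
include h

/-- A vector isotropic for the trace splits into two isotropic vectors pairing nontrivially. -/
lemma exists_isotropic_split {v : V} (hv : H v v ≠ 0) :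
    ∃ b, H b b = 0 ∧ H (v - b) (v - b) = 0 ∧ Algebra.trace F K (H (v - b) b) ≠ 0 := by
  classical
  haveI : Finite K := Module.finite_of_finite F
  haveI : Fintype K := Fintype.ofFinite K
  set T := H v v with hT
  have hTγ : γ T = T := h.herm v v
  obtain ⟨θ, hθ⟩ := h.exists_half
  -- a vector orthogonal to `v` which is not isotropic
  obtain ⟨w₀, hw₀v, hw₀⟩ : ∃ w, H w v = 0 ∧ H w w ≠ 0 := by
    by_contra hh
    simp only [not_exists, not_and, not_not] at hh
    let χ : V →ₗ[K] K :=
      { toFun := fun x => H x v, map_add' := fun x y => h.add_left x y v,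
        map_smul' := fun k x => h.smul_left k x v }
    obtain ⟨w, hw, hw0⟩ := Submodule.exists_mem_ne_zero_of_ne_bot
      (LinearMap.ker_ne_bot_of_finrank_lt (f := χ)
        (by rw [Module.finrank_self]; have := h.two_le; omega))
    replace hw : H w v = 0 := hw
    refine hw0 (h.nondeg w fun y => ?_)
    set y' := y - (H y v / T) • v with hy'
    have h1 : H y' v = 0 := by rw [hy', h.sub_left, h.smul_left, div_mul_cancel₀ _ hv, sub_self]
    have h2 : H w y' = H w y := by rw [hy', h.sub_right, h.smul_right, hw, mul_zero, sub_zero]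
    by_contra hne
    rw [← h2] at hne
    have hkey : ∀ l : K, γ l * H w y' + γ (γ l * H w y') = 0 := fun l => by
      have e := hh (w + l • y') (by rw [h.add_left, h.smul_left, hw, h1, mul_zero, add_zero])
      rw [h.add_left, h.add_right, h.add_right, h.smul_left, h.smul_right, h.smul_left, h.smul_right,
        hh w hw, hh y' h1] at e
      rw [map_mul, h.γ_γ, h.herm]
      linear_combination e
    have e := hkey (γ (θ * (H w y')⁻¹))
    rw [h.γ_γ, mul_assoc, inv_mul_cancel₀ hne, mul_one, hθ] at e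
    exact one_ne_zero e
  -- a coefficient `x` with `x + γ x = 1` and `γ x T` of nonzero trace
  obtain ⟨x, hx, hxT⟩ : ∃ x, x + γ x = 1 ∧ Algebra.trace F K (γ x * T) ≠ 0 := by
    by_cases hθT : Algebra.trace F K (γ θ * T) = 0
    swap; · exact ⟨θ, hθ, hθT⟩
    obtain ⟨s, hs, hsT⟩ : ∃ s, γ s = -s ∧ Algebra.trace F K (s * T) ≠ 0 := by
      by_contra hh
      simp only [not_exists, not_and, not_not] at hh
      obtain ⟨e, he, he'⟩ := h.exists_skew
      obtain ⟨l, hl⟩ := h.exists_not_real
      have heK : γ (algebraMap F K e) = -algebraMap F K e := by rw [h.γ_alg, he', map_neg]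
      have heK0 : algebraMap F K e ≠ 0 := (map_ne_zero _).2 he
      obtain ⟨k, hk⟩ := Algebra.trace_surjective F K 1
      obtain ⟨a, b, ha, hb, hab⟩ := h.decomp hl (k / T / algebraMap F K e)
      have e1 : k = algebraMap F K e * a * T + algebraMap F K l * (algebraMap F K e * b * T) := by
        have e2 := mul_div_cancel₀ (k / T) heK0
        have e3 := div_mul_cancel₀ k hv
        rw [hab] at e2
        rw [← e2] at e3
        linear_combination -e3
      have e4 := congrArg (Algebra.trace F K) e1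
      rw [hk, map_add, ← Algebra.smul_def l, map_smul,
        hh (algebraMap F K e * a) (by rw [map_mul, heK, ha, neg_mul]),
        hh (algebraMap F K e * b) (by rw [map_mul, heK, hb, neg_mul]), smul_zero, add_zero] at e4
      exact one_ne_zero e4
    refine ⟨θ + s, by rw [map_add, hs]; linear_combination hθ, ?_⟩
    rw [map_add, hs, add_mul, map_add, hθT, zero_add, neg_mul, map_neg]
    exact neg_ne_zero.2 hsT
  obtain ⟨c, hc⟩ := CfsgLib.ClassicalMax.Unit.exists_norm_eq (σ := γ) (s := -(x * γ x * T) / H w₀ w₀)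
    (fun e => h.σ_ne (RingEquiv.ext fun a =>
      (algebraMap F K).injective (by rw [← h.γ_alg, e]; rfl))) h.γ_γ
    (by rw [map_div₀, map_neg, map_mul, map_mul, h.γ_γ, hTγ, h.herm]; ring)
  have hvw : H v w₀ = 0 := h.eq_zero_comm hw₀v
  have hcc : c * γ c * H w₀ w₀ = -(x * γ x * T) := by rw [hc, div_mul_cancel₀ _ hw₀]
  refine ⟨x • v + c • w₀, ?_, ?_, ?_⟩
  · simp only [h.add_left, h.add_right, h.smul_left, h.smul_right, hw₀v, hvw, ← hT]
    linear_combination hcc
  · simp only [h.sub_left, h.sub_right, h.add_left, h.add_right, h.smul_left, h.smul_right, hw₀v,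
      hvw, ← hT]
    linear_combination hcc - T * hx
  · have e : H (v - (x • v + c • w₀)) (x • v + c • w₀) = γ x * T := by
      simp only [h.sub_left, h.add_left, h.add_right, h.smul_left, h.smul_right, hw₀v, hvw, ← hT]
      linear_combination -hcc
    rw [e]; exact hxT

end Setup

open Module Matrix Cfsg.Geo CfsgLib.ClassicalMax
open CfsgLib.ExtFieldMax (IsSemi)
open CfsgLib.ExtFieldSymp (tr_ext)

variable {ι : Type} [Fintype ι] [DecidableEq ι] {F : Type*} [Field F]

/-- Invertible matrices as linear automorphisms. -/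
noncomputable def glAut : GL ι F ≃* ((ι → F) ≃ₗ[F] (ι → F)) :=
  Matrix.GeneralLinearGroup.toLin.trans (LinearMap.GeneralLinearGroup.generalLinearEquiv F _)

lemma glAut_apply (g : GL ι F) (v : ι → F) : glAut g v = (g : Matrix ι ι F) *ᵥ v := rfl

/-- A growth estimate. -/
lemma growth_aux {q : ℕ} (hq : 2 ≤ q) (r : ℕ) (hr : 3 ≤ r) :
    (q + 1) * r ≤ q ^ r + 1 ∧ (¬ (q = 2 ∧ r = 3) → (q + 1) * r < q ^ r + 1) := by
  induction r, hr using Nat.le_induction with
  | base =>
    have h9 : 4 * q ≤ q ^ 3 := by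
      rw [pow_succ]
      exact Nat.mul_le_mul_right _ (by nlinarith)
    refine ⟨by omega, fun hne => ?_⟩
    rcases Nat.lt_or_ge q 3 with h | h
    · exact absurd ⟨by omega, rfl⟩ hne
    · omega
  | succ r hr ih =>
    have h8 : 8 ≤ q ^ r :=
      le_trans (le_trans (by norm_num : (8 : ℕ) ≤ 2 ^ 3) (Nat.pow_le_pow_left hq 3))
        (Nat.pow_le_pow_right (by omega) hr)
    have hlt : (q + 1) * (r + 1) < q ^ (r + 1) + 1 := by
      rw [pow_succ]
      nlinarith [ih.1]
    exact ⟨hlt.le, fun _ => hlt⟩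

variable [Fintype F] [DecidableEq F] {σ : F ≃+* F} {f : (ι → F) → (ι → F) → F} {r : ℕ}
  {K : Subalgebra F (Matrix ι ι F)}

set_option maxHeartbeats 1600000 in
/-- The normaliser of an adjoint-closed extension field of odd prime degree is maximal, provided
the special unitary group is generated by transvections. -/
theorem unitary_extField_maximal (hf : IsUnitaryForm σ f)
    (hgen : ∀ H : Subgroup (GL ι F),
      (∀ v c, f v v = 0 → σ c = -c → Unit.uTv hf v c ∈ H) → isoOf f ⊓ specialLinear ι F ≤ H)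
    (hr : r.Prime) (hro : Odd r) (hlt : r < Fintype.card ι)
    (hex : ¬ (Fintype.card F = 4 ∧ r = 3 ∧ Fintype.card ι = 2 * r))
    (hK : IsFieldSubalgebra r K) (hac : IsAdjointClosedFor f K) :
    IsMaximalIn (isoOf f ⊓ specialLinear ι F)
      (subalgebraNormalizer K ⊓ (isoOf f ⊓ specialLinear ι F)) := by
  classical
  haveI : Nonempty ι := Fintype.card_pos_iff.1 (by omega)
  have hfield : IsField K :=
    { exists_pair_ne := ⟨0, 1, fun h => zero_ne_one (α := Matrix ι ι F) (congrArg Subtype.val h)⟩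
      mul_comm := fun a b => Subtype.ext (hK.comm a.1 a.2 b.1 b.2)
      mul_inv_cancel := fun {a} ha => by
        obtain ⟨y, hy, hxy⟩ := hK.inv a.1 a.2 (fun h => ha (Subtype.ext h))
        exact ⟨⟨y, hy⟩, Subtype.ext hxy⟩ }
  letI : Field K := hfield.toField
  letI iV : Module ↥K (ι → F) :=
    { smul := fun k v => (k : Matrix ι ι F) *ᵥ v
      one_smul := fun v => one_mulVec v
      mul_smul := fun a b v => (mulVec_mulVec v _ _).symm
      smul_zero := fun a => mulVec_zero _
      smul_add := fun a v w => mulVec_add _ _ _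
      add_smul := fun a b v => add_mulVec _ _ _
      zero_smul := fun v => zero_mulVec v }
  have hsmul : ∀ (k : ↥K) (v : ι → F), k • v = (k : Matrix ι ι F) *ᵥ v := fun k v => rfl
  haveI : IsScalarTower F ↥K (ι → F) := ⟨fun a k v => smul_mulVec a _ v⟩
  have hfr : finrank F ↥K = r := hK.finrank_eq
  haveI : FiniteDimensional F ↥K := Module.finite_of_finrank_pos (lt_of_lt_of_eq hr.pos hfr.symm)
  haveI : FiniteDimensional ↥K (ι → F) := Module.Finite.of_restrictScalars_finite F _ _
  haveI : Finite ↥K := Module.finite_of_finite F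
  haveI : Fintype ↥K := Fintype.ofFinite _
  -- the involution
  have hnd0 : ∀ x y : ι → F, (∀ u, f u x = f u y) → x = y := fun x y h => by
    by_contra hxy
    obtain ⟨u, hu⟩ := (hf.nondegenerate _ (sub_ne_zero.2 hxy)).1
    exact hu (by rw [Unit.sub_right hf, h, sub_self])
  have hadj : ∀ k : ↥K, ∃ k' : ↥K, ∀ u v : ι → F, f (k • u) v = f u (k' • v) := fun k => by
    obtain ⟨k', hk', e⟩ := hac k.1 k.2
    exact ⟨⟨k', hk'⟩, e⟩
  choose c hc using hadj
  have huniq : ∀ a b : ↥K, (∀ u v : ι → F, f u (a • v) = f u (b • v)) → a = b := fun a b h =>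
    Subtype.ext (Matrix.ext_of_mulVec_single fun i => hnd0 _ _ fun u => h u _)
  have hcc : ∀ a, c (c a) = a := fun a => huniq _ _ fun u v => by
    rw [← hc (c a) u v, hf.herm, ← hc a v u, ← hf.herm]
  have hcmul : ∀ a b, c (a * b) = c a * c b := fun a b => huniq _ _ fun u v => by
    rw [← hc, mul_smul, hc, hc, ← mul_smul, mul_comm]
  have hcadd : ∀ a b, c (a + b) = c a + c b := fun a b => huniq _ _ fun u v => by
    rw [← hc, add_smul, add_smul, hf.add_left, Unit.add_right hf, hc, hc]
  let γ : ↥K ≃+* ↥K :=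
    { toFun := c, invFun := c, left_inv := hcc, right_inv := hcc, map_mul' := hcmul, map_add' := hcadd }
  have hγc : ∀ a, γ a = c a := fun a => rfl
  have hγalg : ∀ a : F, γ (algebraMap F ↥K a) = algebraMap F ↥K (σ a) := fun a => huniq _ _ fun u v => by
    rw [hγc, ← hc, algebraMap_smul, algebraMap_smul, hf.smul_left, Unit.smul_right hf, hf.involutive]
  have hγtr : ∀ a, Algebra.trace F ↥K (γ a) = σ (Algebra.trace F ↥K a) := fun a => by
    apply (algebraMap F ↥K).injective
    rw [← hγalg, trace_eq_sum_automorphisms, trace_eq_sum_automorphisms, map_sum]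
    exact Finset.sum_congr rfl fun τ _ => (ringEquiv_comm γ τ a).symm
  -- the form over `K`
  have hnd := traceForm_nondegenerate F ↥K
  let T := (Algebra.traceForm F ↥K).toDual hnd
  let L : (ι → F) → (ι → F) → ↥K →ₗ[F] F := fun u v =>
    { toFun := fun a => f (a • u) v
      map_add' := fun a b => by rw [add_smul, hf.add_left]
      map_smul' := fun s a => by rw [smul_assoc, hf.smul_left]; rfl }
  let H : (ι → F) → (ι → F) → ↥K := fun u v => T.symm (L u v)
  have hg : ∀ u v a, Algebra.trace F ↥K (H u v * a) = f (a • u) v := fun u v a => by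
    rw [← Algebra.traceForm_apply]
    exact LinearMap.BilinForm.apply_toDual_symm_apply _ a
  have hext : ∀ x y : ↥K, (∀ a, Algebra.trace F ↥K (x * a) = Algebra.trace F ↥K (y * a)) → x = y :=
    fun x y h => tr_ext fun k => by rw [mul_comm k x, mul_comm k y]; exact h k
  have hfH : ∀ u v, f u v = Algebra.trace F ↥K (H u v) := fun u v => by
    rw [← mul_one (H u v), hg, one_smul]
  have hadd : ∀ x y z, H (x + y) z = H x z + H y z := fun x y z => hext _ _ fun a => by
    rw [hg, add_mul, map_add, hg, hg, smul_add, hf.add_left]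
  have hsl : ∀ (k : ↥K) x y, H (k • x) y = k * H x y := fun k x y => hext _ _ fun a => by
    rw [hg, mul_comm k, mul_assoc, hg, smul_smul, mul_comm a k]
  have hherm : ∀ x y, γ (H x y) = H y x := fun x y => hext _ _ fun a => by
    have e : γ (H x y) * a = γ (H x y * γ a) := by rw [map_mul, show γ (γ a) = a from hcc a]
    rw [hg, e, hγtr, hg, hγc, hc, hcc, ← hf.herm]
  have haddr : ∀ x y z, H x (y + z) = H x y + H x z := fun x y z => by
    rw [← hherm, hadd, map_add, hherm, hherm]
  have hsr : ∀ (k : ↥K) x y, H x (k • y) = γ k * H x y := fun k x y => by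
    rw [← hherm, hsl, map_mul, hherm]
  have hH0 : ∀ x, H 0 x = 0 := fun x => by
    have := hsl 0 0 x; rwa [zero_smul, zero_mul] at this
  have hHnd : ∀ x, (∀ y, H x y = 0) → x = 0 := fun x h => by
    by_contra hx
    obtain ⟨u, hu⟩ := (hf.nondegenerate x hx).1
    exact hu (by rw [hfH, ← hherm, h, map_zero, map_zero])
  have hmulr := Module.finrank_mul_finrank F ↥K (ι → F)
  rw [hfr, Module.finrank_pi] at hmulr
  set m := finrank ↥K (ι → F) with hm
  have htwo : 2 ≤ m := by
    by_contra hh
    have : r * m ≤ r * 1 := Nat.mul_le_mul_left r (by omega)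
    omega
  -- membership in the normaliser and semilinearity
  have hsemiN : ∀ g : GL ι F, IsSemi (↥K) (glAut g) → g ∈ subalgebraNormalizer K := by
    intro g hs
    refine SympUnitary.mem_normalizer_of fun k hk => ?_
    obtain ⟨k', hk'⟩ := hs ⟨k, hk⟩
    have h1 : (g : Matrix ι ι F) * k = (k' : Matrix ι ι F) * g :=
      Matrix.ext_of_mulVec_single fun i => by
        rw [← mulVec_mulVec, ← mulVec_mulVec, ← glAut_apply g, ← glAut_apply g]
        exact hk' _
    rw [h1, Matrix.mul_assoc, ← Units.val_mul, mul_inv_cancel, Units.val_one, Matrix.mul_one]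
    exact k'.2
  have hNsemi : ∀ g : GL ι F, g ∈ subalgebraNormalizer K → IsSemi (↥K) (glAut g) := by
    intro g hg k
    refine ⟨⟨_, (hg k).1 k.2⟩, fun v => ?_⟩
    rw [hsmul, hsmul, glAut_apply, glAut_apply, mulVec_mulVec, mulVec_mulVec, Matrix.mul_assoc,
      ← Units.val_mul, inv_mul_cancel, Units.val_one, Matrix.mul_one]
  -- the `K`-isometries of determinant one
  have hKiso : ∀ e : (ι → F) →ₗ[↥K] (ι → F), (∀ x y, H (e x) (e y) = H x y) →
      Algebra.norm F (LinearMap.det e) = 1 →
      ∃ g ∈ subalgebraNormalizer K ⊓ (isoOf f ⊓ specialLinear ι F), ∀ x, glAut g x = e x := by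
    intro e he hd
    set A : Matrix ι ι F := LinearMap.toMatrix' (e.restrictScalars F) with hA
    have hAd : A.det = 1 := by rw [hA, LinearMap.det_toMatrix', LinearMap.det_restrictScalars, hd]
    let g : GL ι F := GeneralLinearGroup.mkOfDetNeZero A (by rw [hAd]; exact one_ne_zero)
    have hgx : ∀ x, (g : Matrix ι ι F) *ᵥ x = e x := fun x => by
      show A *ᵥ x = e x
      rw [hA, LinearMap.toMatrix'_mulVec]; rfl
    refine ⟨g, ⟨hsemiN g fun k => ⟨k, fun v => ?_⟩, Unit.mem_isoOf.2 fun x y => ?_, ?_⟩, fun x => ?_⟩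
    · rw [glAut_apply, glAut_apply, hgx, hgx, map_smul]
    · rw [hgx, hgx, hfH, hfH x y, he]
    · show g ∈ specialLinear ι F
      rw [specialLinear, MonoidHom.mem_ker]
      exact Units.ext (by rw [GeneralLinearGroup.val_det_apply]; exact hAd)
    · rw [glAut_apply, hgx]
  -- Siegel maps
  have hsieg : ∀ (u w : ι → F) (d : ↥K), H u u = 0 → H u w = 0 → d + γ d = - H w w →
      ∃ g ∈ subalgebraNormalizer K ⊓ (isoOf f ⊓ specialLinear ι F),
        ∀ x, glAut g x = x + H x w • u - H x u • w + (d * H x u) • u := by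
    intro u w d hu huw hd
    have hwu : H w u = 0 := by rw [← hherm, huw, map_zero]
    let Hl : (ι → F) → ((ι → F) →ₗ[↥K] ↥K) := fun z =>
      { toFun := fun x => H x z, map_add' := fun x y => hadd x y z, map_smul' := fun k x => hsl k x z }
    let e₁ := LinearMap.transvection (-(Hl u)) w
    let e₂ := LinearMap.transvection (Hl w + (d + H w w) • Hl u) u
    have happ : ∀ x, (e₂ ∘ₗ e₁) x = x + H x w • u - H x u • w + (d * H x u) • u := fun x => by
      simp only [e₁, e₂, Hl, LinearMap.comp_apply, LinearMap.transvection.apply, LinearMap.neg_apply,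
        LinearMap.add_apply, LinearMap.smul_apply, LinearMap.coe_mk, AddHom.coe_mk, hadd, hsl, hwu,
        smul_eq_mul]
      match_scalars <;> ring
    suffices hh : (∀ x y, H ((e₂ ∘ₗ e₁) x) ((e₂ ∘ₗ e₁) y) = H x y) ∧
        Algebra.norm F (LinearMap.det (e₂ ∘ₗ e₁)) = 1 by
      obtain ⟨g, hg, e⟩ := hKiso (e₂ ∘ₗ e₁) hh.1 hh.2
      exact ⟨g, hg, fun x => by rw [e, happ]⟩
    refine ⟨fun x y => ?_, ?_⟩
    · have hsub : ∀ a b z, H (a - b) z = H a z - H b z := fun a b z => by
        have := hadd (a - b) b z; rw [sub_add_cancel] at this; linear_combination -this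
      have hsubr : ∀ a b z, H z (a - b) = H z a - H z b := fun a b z => by
        rw [← hherm, hsub, map_sub, hherm, hherm]
      rw [happ, happ]
      simp only [hadd, hsub, haddr, hsubr, hsl, hsr, hu, huw, hwu, map_mul, hherm]
      linear_combination (H x u * H u y) * hd
    · rw [LinearMap.det_comp, LinearMap.transvection.det, LinearMap.transvection.det]
      simp [e₁, e₂, Hl, hu, huw, hwu]
  -- the scalar `ν`
  obtain ⟨hcardK, hγpow⟩ := Unit.exists_card_eq (σ := γ) (fun e => hf.ne_refl (RingEquiv.ext fun a =>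
      (algebraMap F ↥K).injective (by rw [← hγalg, e]; rfl))) hcc
  obtain ⟨hcardF, -⟩ := Unit.exists_card_eq hf.ne_refl hf.involutive
  set Q := Nat.card (Unit.fixedField γ) with hQ
  set q := Nat.card (Unit.fixedField σ) with hq
  have hq2 : 2 ≤ q := by
    have := Fintype.one_lt_card (α := F)
    rw [hcardF] at this
    rcases Nat.lt_or_ge q 2 with h | h
    · interval_cases q <;> simp at this
    · exact h
  have hQq : Q = q ^ r := by
    have e : Fintype.card ↥K = Fintype.card F ^ r := by
      rw [← hfr]; exact Module.card_eq_pow_finrank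
    rw [hcardK, hcardF, ← pow_mul, mul_comm, pow_mul] at e
    exact Nat.pow_left_injective two_ne_zero e
  have hQ2 : 2 ≤ Q := hQq ▸ le_trans hq2 (Nat.le_self_pow hr.ne_zero q)
  obtain ⟨z, hz⟩ := IsCyclic.exists_generator (α := (↥K)ˣ)
  have hordz : orderOf z = Q ^ 2 - 1 := by
    rw [orderOf_eq_card_of_forall_mem_zpowers hz, Nat.card_units, Nat.card_eq_fintype_card, hcardK]
  -- if `ν / γ ν` lies in `F`, a small power of `ν` is trivial
  have hbad : ∀ (t : ℕ), 0 < t → ∀ a : F, ((z ^ t : (↥K)ˣ) : ↥K) =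
      algebraMap F ↥K a * γ ((z ^ t : (↥K)ˣ) : ↥K) → ∀ i : ℕ, 0 < i → a ^ i = 1 →
      Q + 1 ≤ t * i := by
    intro t ht a ha i hi hai
    have h1 : z ^ (t * i) = z ^ (t * i * Q) := by
      apply Units.ext
      have e := congrArg (fun x : ↥K => x ^ i) ha
      rw [mul_pow, ← map_pow, hai, map_one, one_mul, hγpow, Units.val_pow_eq_pow_val, ← pow_mul,
        ← pow_mul, ← pow_mul] at e
      rw [Units.val_pow_eq_pow_val, Units.val_pow_eq_pow_val, e]
      ring_nf
    have h2 : z ^ (t * i * (Q - 1)) = 1 := by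
      refine mul_left_cancel (a := z ^ (t * i)) ?_
      rw [mul_one, ← pow_add]
      conv_rhs => rw [h1]
      congr 1
      obtain ⟨Q', hQ'⟩ : ∃ Q', Q = Q' + 1 := ⟨Q - 1, by omega⟩
      rw [hQ', Nat.add_sub_cancel]; ring
    have h3 := orderOf_dvd_of_pow_eq_one h2
    rw [hordz, show Q ^ 2 - 1 = (Q + 1) * (Q - 1) by rw [← Nat.sq_sub_sq, one_pow]] at h3
    exact Nat.le_of_dvd (Nat.mul_pos ht hi) (Nat.dvd_of_mul_dvd_mul_right (by omega) h3)
  obtain ⟨ν, hν0, hνnot, hνm⟩ : ∃ ν : ↥K, ν ≠ 0 ∧ (∀ a : F, ν ≠ algebraMap F ↥K a * γ ν) ∧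
      (3 ≤ m ∨ σ (Algebra.norm F ν) = Algebra.norm F ν) := by
    have hnormγ : ∀ x : ↥K, Algebra.norm F (γ x) = σ (Algebra.norm F x) := fun x => by
      apply (algebraMap F ↥K).injective
      rw [← hγalg, Algebra.norm_eq_prod_automorphisms, Algebra.norm_eq_prod_automorphisms, map_prod]
      exact Finset.prod_congr rfl fun τ _ => (ringEquiv_comm γ τ x).symm
    have hσpow : ∀ a : F, σ a = a ^ q := (Unit.exists_card_eq hf.ne_refl hf.involutive).2
    by_cases h3 : 3 ≤ m
    · refine ⟨(z : ↥K), z.ne_zero, fun a ha => ?_, Or.inl h3⟩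
      have hz1 : ((z ^ 1 : (↥K)ˣ) : ↥K) = z := by rw [pow_one]
      -- `a σ a = 1`
      have hγz : γ (z : ↥K) ≠ 0 := (map_ne_zero γ).2 z.ne_zero
      have e : a * σ a = 1 := by
        apply (algebraMap F ↥K).injective
        have e' := congrArg γ ha
        rw [map_mul, hγalg, show γ (γ (z : ↥K)) = z from hcc _] at e'
        rw [map_mul, map_one]
        refine mul_right_cancel₀ hγz ?_
        linear_combination -e' - algebraMap F ↥K (σ a) * ha
      have hle := hbad 1 Nat.one_pos a (by rw [hz1]; exact ha) (q + 1) (Nat.succ_pos _)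
        (by rw [pow_succ', ← hσpow, e])
      have : q * q ≤ Q := by
        rw [hQq, ← pow_two]; exact Nat.pow_le_pow_right (by omega) hr.two_le
      nlinarith
    · refine ⟨((z ^ (q + 1) : (↥K)ˣ) : ↥K), Units.ne_zero _, fun a ha => ?_, Or.inr ?_⟩
      · have ha1 : a ^ r = 1 := by
          have e := congrArg (Algebra.norm F) ha
          rw [map_mul, Algebra.norm_algebraMap, hfr, hnormγ, Units.val_pow_eq_pow_val, map_pow,
            pow_succ', map_mul, ← hσpow, hf.involutive, mul_comm (σ _)] at e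
          have hN : Algebra.norm F (z : ↥K) ≠ 0 :=
            Algebra.norm_ne_zero_iff.2 z.ne_zero
          have hN' : Algebra.norm F (z : ↥K) * σ (Algebra.norm F (z : ↥K)) ≠ 0 :=
            mul_ne_zero hN ((map_ne_zero σ).2 hN)
          exact mul_right_cancel₀ hN' (by linear_combination -e)
        have hle := hbad (q + 1) (Nat.succ_pos _) a ha r hr.pos ha1
        have h3r : 3 ≤ r := by
          rcases hr.two_le.eq_or_lt with e | e
          · rw [← e] at hro; exact absurd hro (by decide)
          · exact e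
        have hm2 : m = 2 := by omega
        have hne : ¬ (q = 2 ∧ r = 3) := fun h =>
          hex ⟨by rw [hcardF, h.1]; norm_num, h.2, by rw [← hmulr, hm2]; ring⟩
        have := (growth_aux hq2 r h3r).2 hne
        rw [hQq] at hle
        omega
      · rw [Units.val_pow_eq_pow_val, map_pow, map_pow, pow_succ', pow_succ', ← hσpow, ← hσpow,
          hf.involutive, mul_comm]
  -- the diagonal maps
  have hscal : ∀ (u : ι → F) (μ : ↥K), u ≠ 0 → H u u = 0 → μ ≠ 0 → (γ μ = μ ∨ μ = ν) →
      ∀ z' : ι → F, H z' z' = 0 → H u z' = 1 →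
      ∃ g ∈ subalgebraNormalizer K ⊓ (isoOf f ⊓ specialLinear ι F),
        glAut g u = μ • u ∧ ∀ (k : ↥K) x, glAut g (k • x) = k • glAut g x := by
    intro u μ hu0 hu hμ hμ' z' hzz huz
    have hzu : H z' u = 1 := by rw [← hherm, huz, map_one]
    have hγμ : γ μ ≠ 0 := (map_ne_zero γ).2 hμ
    let Hl : (ι → F) → ((ι → F) →ₗ[↥K] ↥K) := fun z =>
      { toFun := fun x => H x z, map_add' := fun x y => hadd x y z, map_smul' := fun k x => hsl k x z }
    let e₁ := LinearMap.transvection (((γ μ)⁻¹ - 1) • Hl u) z'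
    let e₂ := LinearMap.transvection ((μ - 1) • Hl z') u
    have happ : ∀ x, (e₂ ∘ₗ e₁) x =
        x + ((μ - 1) * H x z') • u + (((γ μ)⁻¹ - 1) * H x u) • z' := fun x => by
      simp only [e₁, e₂, Hl, LinearMap.comp_apply, LinearMap.transvection.apply,
        LinearMap.smul_apply, LinearMap.coe_mk, AddHom.coe_mk, hadd, hsl, hzz, smul_eq_mul]
      match_scalars <;> ring
    have hiso₁ : ∀ x y, H ((e₂ ∘ₗ e₁) x) ((e₂ ∘ₗ e₁) y) = H x y := fun x y => by
      rw [happ, happ]
      simp only [hadd, haddr, hsl, hsr, hu, hzz, huz, hzu, map_mul, map_sub, map_inv₀, map_one,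
        show γ (γ μ) = μ from hcc μ, hherm]
      field_simp
      ring
    have hdet₁ : LinearMap.det (e₂ ∘ₗ e₁) = μ / γ μ := by
      rw [LinearMap.det_comp, LinearMap.transvection.det, LinearMap.transvection.det]
      simp [e₁, e₂, Hl, huz, hzu, div_eq_mul_inv]
    have happu : (e₂ ∘ₗ e₁) u = μ • u := by
      rw [happ, huz, hu]
      match_scalars <;> ring
    -- a correction of the determinant
    suffices hcorr : ∃ R : (ι → F) →ₗ[↥K] (ι → F), (∀ x y, H (R x) (R y) = H x y) ∧ R u = u ∧
        Algebra.norm F (μ / γ μ * LinearMap.det R) = 1 by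
      obtain ⟨R, hR, hRu, hRd⟩ := hcorr
      obtain ⟨g, hg, e⟩ := hKiso ((e₂ ∘ₗ e₁) ∘ₗ R)
        (fun x y => by rw [LinearMap.comp_apply, LinearMap.comp_apply _ R, hiso₁, hR])
        (by rw [LinearMap.det_comp, hdet₁, hRd])
      exact ⟨g, hg, by rw [e, LinearMap.comp_apply, hRu, happu], fun k x => by rw [e, e, map_smul]⟩
    have hone : Algebra.norm F (μ / γ μ) = 1 → ∃ R : (ι → F) →ₗ[↥K] (ι → F),
        (∀ x y, H (R x) (R y) = H x y) ∧ R u = u ∧ Algebra.norm F (μ / γ μ * LinearMap.det R) = 1 :=
      fun hn => ⟨LinearMap.id, fun x y => rfl, rfl, by rw [LinearMap.det_id, mul_one, hn]⟩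
    rcases hμ' with hμ' | rfl
    · exact hone (by rw [hμ', div_self hμ, map_one])
    rcases hνm with h3 | hN
    · -- an anisotropic vector orthogonal to the plane
      obtain ⟨v, hv1, hv2, hv⟩ : ∃ v, H v u = 0 ∧ H v z' = 0 ∧ H v v ≠ 0 := by
        by_contra hh
        simp only [not_exists, not_and, not_not] at hh
        obtain ⟨v, hv, hv0⟩ := Submodule.exists_mem_ne_zero_of_ne_bot
          (LinearMap.ker_ne_bot_of_finrank_lt (f := (Hl u).prod (Hl z'))
            (show finrank ↥K (↥K × ↥K) < finrank ↥K (ι → F) by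
              rw [Module.finrank_prod, Module.finrank_self]; omega))
        simp only [Hl, LinearMap.mem_ker, LinearMap.prod_apply, Function.prod, Prod.mk_eq_zero,
          LinearMap.coe_mk, AddHom.coe_mk] at hv
        refine hv0 (hHnd v fun y => ?_)
        set y' := y + (-(H y z')) • u + (-(H y u)) • z' with hy'
        have h1 : H y' u = 0 := by rw [hy', hadd, hadd, hsl, hsl, hu, hzu]; ring
        have h2 : H y' z' = 0 := by rw [hy', hadd, hadd, hsl, hsl, huz, hzz]; ring
        have h4 : H v y' = H v y := by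
          rw [hy', haddr, haddr, hsr, hsr, hv.1, hv.2]; ring
        by_contra hne
        obtain ⟨a, ha⟩ : ∃ a, σ a ≠ a := by
          by_contra hh'
          simp only [not_exists, not_not] at hh'
          exact hf.ne_refl (RingEquiv.ext hh')
        have hkey : ∀ l : ↥K, γ l * H v y' + γ (γ l * H v y') = 0 := fun l => by
          have e := hh (v + l • y') (by rw [hadd, hsl, hv.1, h1, mul_zero, add_zero])
            (by rw [hadd, hsl, hv.2, h2, mul_zero, add_zero])
          rw [hadd, haddr, haddr, hsl, hsr, hsl, hsr, hh v hv.1 hv.2, hh y' h1 h2] at e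
          rw [map_mul, show γ (γ l) = l from hcc l, hherm]
          linear_combination e
        rw [← h4] at hne
        have k1 := hkey (γ (H v y')⁻¹)
        have k2 := hkey (γ (algebraMap F ↥K a * (H v y')⁻¹))
        rw [show γ (γ (H v y')⁻¹) = (H v y')⁻¹ from hcc _, inv_mul_cancel₀ hne, map_one] at k1
        rw [show γ (γ (algebraMap F ↥K a * (H v y')⁻¹)) = algebraMap F ↥K a * (H v y')⁻¹ from hcc _,
          mul_assoc, inv_mul_cancel₀ hne, mul_one, hγalg] at k2
        exact ha ((algebraMap F ↥K).injective (by linear_combination k2 - algebraMap F ↥K a * k1))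
      set ζ := γ μ / μ with hζ
      refine ⟨LinearMap.transvection (((ζ - 1) / H v v) • Hl v) v, fun x y => ?_, ?_, ?_⟩
      · have hvr : γ (H v v) = H v v := hherm v v
        simp only [Hl, LinearMap.transvection.apply, LinearMap.smul_apply, LinearMap.coe_mk,
          AddHom.coe_mk, hadd, haddr, hsl, hsr, smul_eq_mul, map_mul, map_sub, map_div₀, map_one,
          hherm, hζ, show γ (γ μ) = μ from hcc μ]
        field_simp
        ring
      · have huv : H u v = 0 := by rw [← hherm, hv1, map_zero]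
        simp [Hl, LinearMap.transvection.apply, huv]
      · rw [LinearMap.transvection.det]
        simp only [Hl, LinearMap.smul_apply, LinearMap.coe_mk, AddHom.coe_mk, smul_eq_mul,
          div_mul_cancel₀ _ hv, hζ]
        rw [show (μ / γ μ) * (1 + (γ μ / μ - 1)) = 1 by field_simp; ring, map_one]
    · refine hone ?_
      have hnormγ : Algebra.norm F (γ μ) = σ (Algebra.norm F μ) := by
        apply (algebraMap F ↥K).injective
        rw [← hγalg, Algebra.norm_eq_prod_automorphisms, Algebra.norm_eq_prod_automorphisms, map_prod]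
        exact Finset.prod_congr rfl fun τ _ => (ringEquiv_comm γ τ μ).symm
      have e : Algebra.norm F (μ / γ μ) * Algebra.norm F (γ μ) = Algebra.norm F μ := by
        rw [← map_mul, div_mul_cancel₀ _ hγμ]
      rw [hnormγ, hN] at e
      exact mul_right_cancel₀ (Algebra.norm_ne_zero_iff.2 hμ) (e.trans (one_mul _).symm)
  have key : ∀ M : Subgroup (GL ι F),
      subalgebraNormalizer K ⊓ (isoOf f ⊓ specialLinear ι F) ≤ M → M ≤ isoOf f ⊓ specialLinear ι F →
      Setup (M.map (glAut (ι := ι) (F := F)).toMonoidHom) H γ σ ν := by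
    intro M h1 h2
    have hiso : ∀ g ∈ M.map (glAut (ι := ι) (F := F)).toMonoidHom, ∀ x y,
        Algebra.trace F ↥K (H (g x) (g y)) = Algebra.trace F ↥K (H x y) := by
      rintro _ ⟨g, hg, rfl⟩ x y
      rw [← hfH, ← hfH]
      exact (h2 hg).1 x y
    have hS : ∀ (u w : ι → F) (d : ↥K), H u u = 0 → H u w = 0 → d + γ d = - H w w →
        ∃ g ∈ M.map (glAut (ι := ι) (F := F)).toMonoidHom,
          ∀ x, g x = x + H x w • u - H x u • w + (d * H x u) • u := by
      intro u w d a b e
      obtain ⟨g, hg, hx⟩ := hsieg u w d a b e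
      exact ⟨glAut g, Subgroup.mem_map_of_mem _ (h1 hg), hx⟩
    refine ⟨by rw [hfr]; exact hr, by rw [hfr]; exact hro, htwo, hf.ne_refl, hcc, hγalg, hadd, hsl,
      hherm, hHnd, hiso, hS, hν0, hνnot, fun u μ hu0 hu hμ hμ' => ?_⟩
    -- an isotropic partner
    obtain ⟨y, hy⟩ : ∃ y, H u y ≠ 0 := by
      by_contra hh
      simp only [not_exists, not_not] at hh
      exact hu0 (hHnd u hh)
    obtain ⟨a, ha⟩ : ∃ a, σ a ≠ a := by
      by_contra hh
      simp only [not_exists, not_not] at hh
      exact hf.ne_refl (RingEquiv.ext hh)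
    set s : ↥K := γ ((H u y)⁻¹) with hs
    have hy1 : H u (s • y) = 1 := by
      rw [hsr, hs, show γ (γ (H u y)⁻¹) = (H u y)⁻¹ from hcc _, inv_mul_cancel₀ hy]
    obtain ⟨θ, hθ⟩ : ∃ θ : ↥K, θ + γ θ = 1 := by
      set aK := algebraMap F ↥K a
      have haK : γ aK ≠ aK := by
        rw [hγalg]; exact fun e => ha ((algebraMap F ↥K).injective e)
      have hd : γ aK - aK ≠ 0 := sub_ne_zero.2 haK
      refine ⟨γ aK / (γ aK - aK), ?_⟩
      rw [map_div₀, map_sub, show γ (γ aK) = aK from hcc _]
      rw [← neg_sub (γ aK) aK, div_neg, ← sub_eq_add_neg, ← sub_div, div_self hd]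
    obtain ⟨y₁, hy1⟩ : ∃ y₁, H u y₁ = 1 := ⟨s • y, hy1⟩
    have hy1' : H y₁ u = 1 := by rw [← hherm, hy1, map_one]
    set z' := y₁ + (-(H y₁ y₁ * θ)) • u with hz'
    have hzu : H u z' = 1 := by rw [haddr, hsr, hy1, hu, mul_zero, add_zero]
    have hzz : H z' z' = 0 := by
      rw [hadd, haddr, haddr, hsl, hsl, hsr, hsr, hu, hy1, hy1', map_neg, map_mul, hherm]
      linear_combination -(H y₁ y₁) * hθ
    obtain ⟨g, hg, e1, e2⟩ := hscal u μ hu0 hu hμ hμ' z' hzz hzu
    exact ⟨glAut g, Subgroup.mem_map_of_mem _ (h1 hg), e1, e2⟩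
  have hS0 := key _ le_rfl inf_le_right
  have htv : ∀ (v : ι → F) (e : F), σ e = -e → H v v = 0 → ∀ x,
      glAut (Unit.uTv hf v e) x = x + (e * Algebra.trace F ↥K (H x v)) • v := fun v e he hv x => by
    rw [glAut_apply, Unit.uTv_mulVec hf (by rw [hfH, hv, map_zero]), hfH]
  refine isMaximalIn_of inf_le_right ?_ fun M h1 h2 g hg hgN => ?_
  · obtain ⟨e, he0, he⟩ := Unit.exists_trace_zero hf.ne_refl hf.involutive
    obtain ⟨v, hv0, hv⟩ := hS0.exists_singular
    have hfv : f v v = 0 := by rw [hfH, hv, map_zero]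
    refine ⟨Unit.uTv hf v e, ⟨Unit.uTv_mem_isoOf hf hfv he, Unit.uTv_mem_sl hf _ _⟩, fun hN => ?_⟩
    exact hS0.not_isSemi_of_transvection hv0 hv he0 (htv v e he hv) (hNsemi _ hN.1)
  · have hns : ∃ g' ∈ M.map (glAut (ι := ι) (F := F)).toMonoidHom, ¬ IsSemi (↥K) g' :=
      ⟨glAut g, Subgroup.mem_map_of_mem _ hg, fun hs => hgN ⟨hsemiN g hs, h2 hg⟩⟩
    have hS := key M h1 h2
    have hmem : ∀ v e, H v v = 0 → σ e = -e → Unit.uTv hf v e ∈ M := by
      intro v e hv he
      obtain ⟨_, ⟨t, ht, rfl⟩, et⟩ := hS.all_transvections hns hv (e := e) (by rw [he, add_neg_cancel])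
      have : Unit.uTv hf v e = t := gl_ext_mulVec fun x => by
        rw [← glAut_apply, htv v e he hv, ← glAut_apply t]
        exact (et x).symm
      rw [this]; exact ht
    refine hgen M fun v e hfv he => ?_
    -- `v` is moved to an isotropic vector over `K` by a transvection
    rcases eq_or_ne e 0 with rfl | he0
    · have : Unit.uTv hf v 0 = 1 := gl_ext_mulVec fun x => by
        rw [Unit.uTv_mulVec hf hfv]; simp
      rw [this]; exact M.one_mem
    by_cases hv : H v v = 0
    · exact hmem v e hv he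
    obtain ⟨b, hb, ha, hab⟩ := hS.exists_isotropic_split hv
    set a := v - b with hadef
    rw [← hfH] at hab
    have hfa : f a a = 0 := by rw [hfH, ha, map_zero]
    have hfb : f b b = 0 := by rw [hfH, hb, map_zero]
    have hskew : f a b + f b a = 0 := by
      have e1 : f (a + b) (a + b) = 0 := by rw [hadef, sub_add_cancel]; exact hfv
      rw [hf.add_left, Unit.add_right hf, Unit.add_right hf, hfa, hfb] at e1
      linear_combination e1
    have hd : σ (f a b)⁻¹ = -(f a b)⁻¹ := by
      rw [map_inv₀, ← hf.herm, show f b a = - f a b by linear_combination hskew, inv_neg]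
    set t := Unit.uTv hf b (f a b)⁻¹ with ht
    have htM : t ∈ M := hmem b _ hb hd
    have htI : t ∈ isoOf f := Unit.uTv_mem_isoOf hf hfb hd
    have hta : (t : Matrix ι ι F) *ᵥ a = v := by
      rw [ht, Unit.uTv_mulVec hf hfb, inv_mul_cancel₀ hab, one_smul, hadef, sub_add_cancel]
    have hconj := Unit.uTv_conj hf htI hfa (c := e)
    rw [hta] at hconj
    rw [← hconj]
    exact M.mul_mem (M.mul_mem htM (hmem a e ha he)) (M.inv_mem htM)

end CfsgLib.ExtFieldUnit
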